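/-
Sylow 2-subgroups with a self-centralizing four group, their subgroups of index two, and fusion of involutions
in simple groups having them.
-/
import Cfsg.Agent.Lib.PGroup.MaximalClass
import Cfsg.Agent.Lib.TwoGroupRecog.Basic
import Cfsg.Agent.Lib.PSL2.Groups
import Cfsg.Agent.Lib.ZStar.KleinSimple
import Cfsg.Agent.Lib.CentFour.Sylow
import Cfsg.Agent.Lib.Transfer.WreathedOrSemidihedral
import Cfsg.Agent.Lib.Transfer.DihedralFusion
import Cfsg.Agent.S1192
import Cfsg.Agent.S3864

set_option autoImplicit false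
set_option linter.unusedSectionVars false
set_option linter.style.haveILetI false

namespace Cfsg.Agent.SubThree

open Subgroup

universe u

/-- A generalized quaternion group has one involution. -/
theorem quat_unique {k : ℕ} {p q : QuaternionGroup (2 ^ (k + 1))} (hp : orderOf p = 2)
    (hq : orderOf q = 2) : p = q := by
  haveI : NeZero (2 ^ (k + 1)) := ⟨by positivity⟩
  have huniq : ∀ x : QuaternionGroup (2 ^ (k + 1)), orderOf x = 2 →
      x ∈ zpowers (QuaternionGroup.a 1 : QuaternionGroup (2 ^ (k + 1))) := by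
    rintro (i | i) hx
    · refine ⟨(i.val : ℤ), ?_⟩
      show (QuaternionGroup.a 1 : QuaternionGroup (2 ^ (k + 1))) ^ (i.val : ℤ) = _
      rw [zpow_natCast, QuaternionGroup.a_one_pow, ZMod.natCast_zmod_val]
    · rw [QuaternionGroup.orderOf_xa] at hx; norm_num at hx
  exact KleinSimple.eq_of_orderOf_two (isOfFinOrder_of_finite _) (huniq p hp) (huniq q hq) hp hq

/-- A four group with two named involutions. -/
theorem klein_two {X : Type*} [Group X] [Finite X] {V : Subgroup X} (hV : IsKleinFour V) :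
    ∃ a ∈ V, ∃ b ∈ V, orderOf a = 2 ∧ orderOf b = 2 ∧ a ≠ b := by
  classical
  haveI := Fintype.ofFinite V
  have h4 := hV.card_four
  rw [Nat.card_eq_fintype_card] at h4
  have hc : 1 < Fintype.card {v : V // v ≠ 1} := by
    rw [Fintype.card_subtype_compl, Fintype.card_subtype_eq, h4]; norm_num
  obtain ⟨a, b, hab⟩ := Fintype.exists_pair_of_one_lt_card hc
  refine ⟨a.1, a.1.2, b.1, b.1.2, ?_, ?_, fun e => hab (Subtype.ext (Subtype.ext e))⟩
  · exact Involution.orderOf_of_sq (congrArg Subtype.val (hV.mul_self a.1))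
      fun e => a.2 (Subtype.ext e)
  · exact Involution.orderOf_of_sq (congrArg Subtype.val (hV.mul_self b.1))
      fun e => b.2 (Subtype.ext e)

/-- A 2-group with a self-centralizing four group. -/
theorem shape {S : Type u} [Group S] [Finite S] (h2 : IsPGroup 2 S) (V : Subgroup S)
    (hV : IsKleinFour V) (hC : centralizer (V : Set S) = V) :
    Nat.card S = 4 ∨ (∃ k : ℕ, Nonempty (S ≃* DihedralGroup (2 ^ (k + 2)))) ∨
      Cfsg.IsQuasiDihedral S := by
  haveI := Fact.mk Nat.prime_two
  by_cases h4 : Nat.card S = 4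
  · exact Or.inl h4
  right
  obtain ⟨n, hn⟩ := IsPGroup.iff_card.1 h2
  have hd : 2 ^ 2 ∣ 2 ^ n := by
    rw [← hn, show (2 : ℕ) ^ 2 = 4 from rfl, ← hV.card_four]; exact V.card_subgroup_dvd_card
  have hn3 : 3 ≤ n := by
    rcases ((Nat.pow_dvd_pow_iff_le_right (by norm_num)).1 hd).lt_or_eq with h | h
    · exact h
    · exact absurd (by rw [hn, ← h]; norm_num) h4
  have hcl := PGroup.maximal_class_of_selfCentralizing n S hn V (by rw [hV.card_four]; norm_num) hC
  have hlcs := PGroup.card_lcs_of_maximal_class hn3 hn hcl (i := 1) le_rfl (by omega)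
  rw [top_lowerCentralSeries_one] at hlcs
  have hidx : (_root_.commutator S).index = 4 := by
    have h := (_root_.commutator S).card_mul_index
    rw [hlcs, hn, show 2 ^ n = 2 ^ (n - 1 - 1) * 4 by
      rw [show (4 : ℕ) = 2 ^ 2 from rfl, ← pow_add]; congr 1; omega] at h
    exact Nat.eq_of_mul_eq_mul_left (by positivity) h
  rcases TwoGroupRecog.classify_of_index_commutator h2 hidx h4 with
    ⟨k, e⟩ | ⟨k, hk, a, b, ha, hb, hab⟩ | ⟨k, ⟨e⟩⟩
  · exact Or.inl ⟨k, e⟩
  · refine Or.inr ⟨k + 3, by omega, hk, a, b, ha, hb, ?_⟩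
    rwa [show k + 3 - 1 = k + 2 by omega]
  · exfalso
    obtain ⟨a, -, b, -, ha, hb, hne⟩ := klein_two hV
    exact hne (e.injective (quat_unique (by rw [MulEquiv.orderOf_eq, ha]) (by rw [MulEquiv.orderOf_eq, hb])))

variable {G : Type u} [Group G] [Finite G]

/-- The shape of a Sylow subgroup containing a four group it meets the centralizer of in that group. -/
theorem sylow_shape (S : Sylow 2 G) {V : Subgroup G} (hV : IsKleinFour V) (hVS : V ≤ (S : Subgroup G))
    (hC : centralizer (V : Set G) ⊓ (S : Subgroup G) ≤ V) :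
    Nat.card (S : Subgroup G) = 4 ∨
      (∃ k : ℕ, Nonempty ((S : Subgroup G) ≃* DihedralGroup (2 ^ (k + 2)))) ∨
      Cfsg.IsQuasiDihedral (S : Subgroup G) := by
  haveI := hV.isMulCommutative
  refine shape S.isPGroup' (V.subgroupOf S)
    (Transfer.isKleinFour_congr (subgroupOfEquivOfLe hVS).symm hV) (le_antisymm (fun x hx => ?_) fun x hx => ?_)
  · refine mem_subgroupOf.2 (hC ⟨mem_centralizer_iff.2 fun v hv => ?_, x.2⟩)
    exact congrArg Subtype.val (mem_centralizer_iff.1 hx ⟨v, hVS hv⟩ hv)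
  · refine mem_centralizer_iff.2 fun y hy => Subtype.ext ?_
    show (y : G) * (x : G) = (x : G) * (y : G)
    exact congrArg Subtype.val ((hV.isMulCommutative).is_comm.comm
      (⟨(y : G), hy⟩ : V) ⟨(x : G), mem_subgroupOf.1 hx⟩)

/-- A subgroup of index two is maximal. -/
theorem isCoatom_of_index_two {S : Type*} [Group S] [Finite S] {M : Subgroup S} (h : M.index = 2) :
    IsCoatom M := by
  refine ⟨fun e => by rw [e, index_top] at h; omega, fun K hK => ?_⟩
  have h1 := relIndex_mul_index hK.le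
  rw [h] at h1
  rcases (Nat.dvd_prime Nat.prime_two).1 (Dvd.intro_left _ h1) with e | e
  · exact index_eq_one.1 e
  · exfalso
    rw [e] at h1
    exact hK.not_ge (relIndex_eq_one.1 (by omega))

/-- A noncyclic subgroup of index two of a dihedral 2-group is dihedral. -/
theorem dihedral_index_two {k : ℕ} (M : Subgroup (DihedralGroup (2 ^ (k + 2)))) (hi : M.index = 2)
    (hnc : ¬ IsCyclic M) : Nonempty (M ≃* DihedralGroup (2 ^ (k + 1))) := by
  haveI : NeZero (2 ^ (k + 2)) := ⟨by positivity⟩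
  have hr2 : DihedralGroup.r (2 : ZMod (2 ^ (k + 2))) ∈ M := by
    have := mul_self_mem_of_index_two hi (DihedralGroup.r (1 : ZMod (2 ^ (k + 2))))
    rwa [DihedralGroup.r_mul_r, one_add_one_eq_two] at this
  obtain ⟨i, hi'⟩ : ∃ i, DihedralGroup.sr i ∈ M := by
    by_contra h
    push Not at h
    refine hnc ?_
    have hle : M ≤ zpowers (DihedralGroup.r (1 : ZMod (2 ^ (k + 2)))) := by
      rintro (j | j) hj
      · exact ⟨(j.val : ℤ), by simp⟩
      · exact absurd hj (h j)
    exact isCyclic_of_injective (inclusion hle) (inclusion_injective hle)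
  have hcard : Nat.card M = 2 * 2 ^ (k + 1) := by
    have h := M.card_mul_index
    rw [hi, DihedralGroup.nat_card, mul_comm] at h
    rw [← pow_succ']
    exact Nat.eq_of_mul_eq_mul_left two_pos h
  have ho : orderOf (DihedralGroup.r (2 : ZMod (2 ^ (k + 2)))) = 2 ^ (k + 1) := by
    rw [show DihedralGroup.r (2 : ZMod (2 ^ (k + 2))) = DihedralGroup.r 1 ^ 2 by
        rw [DihedralGroup.r_one_pow]; norm_num,
      orderOf_pow' _ two_ne_zero, DihedralGroup.orderOf_r_one,
      Nat.gcd_eq_right (dvd_pow_self 2 (by omega : k + 2 ≠ 0)), pow_succ 2 (k + 1),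
      Nat.mul_div_cancel _ two_pos]
  refine PSL2.mulEquiv_dihedral hcard ?_ (⟨_, hr2⟩ : M) ⟨_, hi'⟩ (by rw [orderOf_mk, ho])
    (by rw [orderOf_mk, DihedralGroup.orderOf_sr]) (Subtype.ext ?_) ?_
  · calc 2 = 2 ^ 1 := rfl
      _ ≤ 2 ^ (k + 1) := Nat.pow_le_pow_right (by norm_num) (by omega)
  · show DihedralGroup.sr i * DihedralGroup.r 2 * DihedralGroup.sr i = (DihedralGroup.r 2)⁻¹
    rw [DihedralGroup.sr_mul_r, DihedralGroup.sr_mul_sr, DihedralGroup.inv_r]
    congr 1
    ring
  · intro h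
    obtain ⟨j, hj⟩ := mem_zpowers_iff.1 h
    have h' := congrArg Subtype.val hj
    rw [SubgroupClass.coe_zpow] at h'
    change DihedralGroup.r (2 : ZMod (2 ^ (k + 2))) ^ j = DihedralGroup.sr i at h'
    rw [show DihedralGroup.r (2 : ZMod (2 ^ (k + 2))) =
      DihedralGroup.r 1 ^ (2 : ℤ) by rw [DihedralGroup.r_one_zpow]; norm_num, ← zpow_mul,
      DihedralGroup.r_one_zpow] at h'
    exact absurd h' (by simp)

/-- A maximal subgroup of a dihedral or semidihedral 2-group is cyclic, quaternion or dihedral. -/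
theorem max_cases {S : Type*} [Group S] [Finite S]
    (h : (∃ k : ℕ, Nonempty (S ≃* DihedralGroup (2 ^ (k + 2)))) ∨ Cfsg.IsQuasiDihedral S)
    (M : Subgroup S) (hi : M.index = 2) (hnc : ¬ IsCyclic M)
    (hnq : ∀ k : ℕ, IsEmpty (M ≃* QuaternionGroup (2 ^ (k + 1)))) :
    ∃ j, 2 ≤ j ∧ Nonempty (M ≃* DihedralGroup j) := by
  rcases h with ⟨k, ⟨e⟩⟩ | hq
  · set M' := M.map e.toMonoidHom
    have eM : M ≃* M' := e.subgroupMap M
    obtain ⟨f⟩ := dihedral_index_two M'
      (by rw [show M' = M.map e.toMonoidHom from rfl,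
          index_map_of_bijective (f := e.toMonoidHom) e.bijective, hi])
      fun hc => hnc (haveI := hc; isCyclic_of_injective eM.toMonoidHom eM.injective)
    exact ⟨_, (show 2 ^ 1 ≤ 2 ^ (k + 1) from Nat.pow_le_pow_right (by norm_num) (by omega)),
      ⟨eM.trans f⟩⟩
  · obtain ⟨n, hn, hcard, -⟩ := id hq
    obtain ⟨M₁, M₂, M₃, -, -, -, -, -, -, hall, hc, ⟨e2⟩, ⟨e3⟩⟩ := S1192.result hq n hcard
    rcases hall M (isCoatom_of_index_two hi) with rfl | rfl | rfl
    · exact absurd hc hnc
    · exact ((hnq (n - 3)).false (by rwa [show n - 3 + 1 = n - 2 by omega])).elim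
    · exact ⟨_, (show 2 ^ 1 ≤ 2 ^ (n - 1) from Nat.pow_le_pow_right (by norm_num) (by omega)), ⟨e3⟩⟩

/-- In a simple group with such Sylow subgroups the involutions are conjugate. -/
theorem isConj_involutions [IsSimpleGroup G] (hna : ¬ IsMulCommutative G) (S : Sylow 2 G)
    (h : (∃ k : ℕ, Nonempty ((S : Subgroup G) ≃* DihedralGroup (2 ^ (k + 2)))) ∨
      Cfsg.IsQuasiDihedral (S : Subgroup G))
    {x y : G} (hx : orderOf x = 2) (hy : orderOf y = 2) : IsConj x y := by
  haveI := Fact.mk Nat.prime_two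
  have hno : ∀ K : Subgroup G, K.index ≠ 2 := fun K hK => by
    haveI := normal_of_index_eq_two hK
    rcases (‹K.Normal›).eq_bot_or_eq_top with e | e
    · rw [e, index_bot] at hK
      haveI : Fact (Nat.Prime 2) := ⟨Nat.prime_two⟩
      exact hna (haveI := isCyclic_of_prime_card hK; IsCyclic.isMulCommutative)
    · rw [e, index_top] at hK; omega
  rcases h with ⟨k, he⟩ | hq
  · rcases S3864.result S (k + 3) (by omega) (by simpa [show k + 3 - 1 = k + 2 by omega] using he) with
      ⟨h1, -⟩ | ⟨-, ⟨K, -, hK⟩, -⟩ | ⟨-, hc⟩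
    · haveI := (Nat.card_eq_one_iff_unique.1 h1).1
      exact ConjClasses.mk_eq_mk_iff_isConj.1 (congrArg Subtype.val (Subsingleton.elim
        (⟨ConjClasses.mk x, x, rfl, hx⟩ : {C : ConjClasses G // ∃ g : G, ConjClasses.mk g = C ∧ orderOf g = 2})
        ⟨ConjClasses.mk y, y, rfl, hy⟩))
    · exact absurd hK (hno K)
    · exfalso
      obtain ⟨Q, N, hN, hNQ⟩ := hc
      have h2 : 2 ∣ Nat.card G := hx ▸ orderOf_dvd_natCard x
      rcases hN.eq_bot_or_eq_top with e | e <;> subst e
      · obtain ⟨m, hm⟩ := IsPGroup.iff_card.1 Q.isPGroup'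
        exact SmallOrders.not_isPGroup hna 2
          (IsPGroup.of_card (n := m) (by rw [← hNQ.card_mul, card_bot, one_mul, hm]))
      · have h := hNQ.card_mul
        rw [card_top] at h
        have := Q.dvd_card_of_dvd_card h2
        rw [(mul_eq_left₀ Nat.card_pos.ne').1 h] at this
        norm_num at this
  · obtain ⟨n, ⟨d⟩⟩ := QDWreath.nonempty_qdData hq
    exact (Transfer.SD.involutions_conj d hno hx).symm.trans (Transfer.SD.involutions_conj d hno hy)

end Cfsg.Agent.SubThree
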