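/-
A simple group with semidihedral Sylow 2-subgroups and a self-centralizing four group is `L₃(3)` or `M₁₁`.
-/
import Cfsg.Agent.Lib.SubThree.Shape
import Cfsg.Agent.Lib.GL23Core.Main
import Cfsg.Agent.Lib.GWDihedral.Main
import Cfsg.Agent.Lib.GWCons.InvolAut
import Cfsg.Agent.Lib.QGroup.Main
import Cfsg.Agent.Lib.DGroup.KleinDihedral
import Cfsg.Agent.S2879
import Cfsg.Agent.S3304
import Cfsg.Agent.S2916

set_option autoImplicit false
set_option linter.unusedSectionVars false
set_option linter.style.haveILetI false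
set_option maxHeartbeats 1000000

namespace Cfsg.Agent.SubThree

open Subgroup

universe u

section SL

open Matrix Cfsg.Agent.PSL2

variable {F : Type} [Field F]

/-- `-1` is the only involution of `SL₂`. -/
theorem sl_sq_one (h2 : (2 : F) ≠ 0) {s : SL2 F} (h : s * s = 1) : s = 1 ∨ s = -1 := by
  have hi : s⁻¹ = s := inv_eq_of_mul_eq_one_right h
  set M : Matrix (Fin 2) (Fin 2) F := (s : Matrix (Fin 2) (Fin 2) F) with hM
  have hd : M 0 0 * M 1 1 - M 0 1 * M 1 0 = 1 := by
    rw [← Matrix.det_fin_two M]; exact s.2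
  have h' : M.adjugate = M := by rw [hM, ← Matrix.SpecialLinearGroup.coe_inv, hi]
  rw [Matrix.adjugate_fin_two] at h'
  have e00 : M 1 1 = M 0 0 := by simpa using congrArg (fun A : Matrix (Fin 2) (Fin 2) F => A 0 0) h'
  have e01 : -M 0 1 = M 0 1 := by simpa using congrArg (fun A : Matrix (Fin 2) (Fin 2) F => A 0 1) h'
  have e10 : -M 1 0 = M 1 0 := by simpa using congrArg (fun A : Matrix (Fin 2) (Fin 2) F => A 1 0) h'
  have z01 : M 0 1 = 0 := by
    have : (2 : F) * M 0 1 = 0 := by linear_combination -e01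
    exact (mul_eq_zero.1 this).resolve_left h2
  have z10 : M 1 0 = 0 := by
    have : (2 : F) * M 1 0 = 0 := by linear_combination -e10
    exact (mul_eq_zero.1 this).resolve_left h2
  rw [e00, z01, z10, mul_zero, sub_zero] at hd
  rcases mul_self_eq_one_iff.1 hd with e | e
  · left
    refine Matrix.SpecialLinearGroup.ext _ _ fun i j => ?_
    show M i j = (1 : Matrix (Fin 2) (Fin 2) F) i j
    fin_cases i <;> fin_cases j <;> simp [e, e00, z01, z10]
  · right
    refine Matrix.SpecialLinearGroup.ext _ _ fun i j => ?_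
    rw [Matrix.SpecialLinearGroup.coe_neg, Matrix.SpecialLinearGroup.coe_one]
    show M i j = (-(1 : Matrix (Fin 2) (Fin 2) F)) i j
    fin_cases i <;> fin_cases j <;> simp [e, e00, z01, z10]

end SL

open Cfsg.Agent.PSL2 in
/-- The centralizer modulo its core. -/
theorem bar_gl {B : Type u} [Group B] [Finite B] (hO : Cfsg.pPrimeCore 2 B = ⊥) (S : Sylow 2 B)
    (hS : Cfsg.IsQuasiDihedral (S : Subgroup B)) {c e : B} (hc : orderOf c = 2)
    (hcc : ∀ x : B, x * c = c * x) (hcS : c ∈ S) (he : orderOf e = 2) (hne : e ≠ c)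
    (hCe : ∀ x : B, x * e = e * x → x = 1 ∨ x = c ∨ x = e ∨ x = c * e)
    {F : Type} [Field F] [Fintype F] (hodd : Odd (Fintype.card F))
    (eL : ↥(_root_.commutator B) ≃* Matrix.SpecialLinearGroup (Fin 2) F) :
    Nonempty (B ≃* GL (Fin 2) (ZMod 3)) := by
  classical
  haveI := Fact.mk Nat.prime_two
  have h2 : (2 : F) ≠ 0 := two_ne_zero_iff_odd.2 (by rwa [Nat.card_eq_fintype_card])
  have hc2 := Involution.mul_self hc
  have he2 := Involution.mul_self he
  have hc1 := Involution.ne_one hc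
  have he1 := Involution.ne_one he
  set L := _root_.commutator B with hL
  -- `e` is not central
  have henc : ¬ ∀ x : B, x * e = e * x := fun hall => by
    obtain ⟨n, hn, hcard, -⟩ := hS
    have hle : Nat.card B ≤ 4 := by
      rw [← Nat.card_fin 4]
      refine Nat.card_le_card_of_surjective (![1, c, e, c * e] : Fin 4 → B) fun x => ?_
      rcases hCe x (hall x) with rfl | rfl | rfl | rfl
      · exact ⟨0, rfl⟩
      · exact ⟨1, rfl⟩
      · exact ⟨2, rfl⟩
      · exact ⟨3, rfl⟩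
    have h1 := card_le_card_group (S : Subgroup B)
    have h2 : 2 ^ 4 ≤ 2 ^ (n + 1) := Nat.pow_le_pow_right two_pos (by omega)
    omega
  -- the involution of `L` is `c`
  have hm1 : (-1 : Matrix.SpecialLinearGroup (Fin 2) F) ≠ 1 := fun h => by
    have := congrArg (fun s : Matrix.SpecialLinearGroup (Fin 2) F => (s : Matrix (Fin 2) (Fin 2) F) 0 0) h
    simp at this
    exact h2 (by linear_combination -this)
  set z0 : L := eL.symm (-1) with hz0
  have hz02 : z0 * z0 = 1 := by rw [hz0, ← map_mul, neg_mul_neg, one_mul, map_one]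
  have hz01 : z0 ≠ 1 := fun h => hm1 (eL.symm.injective (h.trans (map_one eL.symm).symm))
  have huniq : ∀ u : L, u * u = 1 → u ≠ 1 → u = z0 := fun u hu hu1 => by
    rcases sl_sq_one h2 (s := eL u) (by rw [← map_mul, hu, map_one]) with h | h
    · exact absurd (eL.injective (h.trans (map_one eL).symm)) hu1
    · exact eL.injective (by rw [h, hz0, MulEquiv.apply_symm_apply])
  have hz0c : ∀ x : B, x * z0 = z0 * x := fun x => by
    have := huniq (MulAut.conjNormal x z0) (by rw [← map_mul, hz02, map_one])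
      (fun h => hz01 ((MulAut.conjNormal x).injective (h.trans (map_one _).symm)))
    exact mul_inv_eq_iff_eq_mul.1 (congrArg Subtype.val this)
  have hzc : (z0 : B) = c := by
    rcases hCe z0 (hz0c e).symm with h | h | h | h
    · exact absurd (Subtype.ext h) hz01
    · exact h
    · exact absurd (fun x => by rw [← h]; exact hz0c x) henc
    · refine absurd (fun x => ?_) henc
      rw [show e = c * (z0 : B) by rw [h, ← mul_assoc, hc2, one_mul], ← mul_assoc, hcc x, mul_assoc,
        hz0c x, mul_assoc]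
  have heL : e ∉ L := fun h => hne ((congrArg Subtype.val (huniq ⟨e, h⟩ (Subtype.ext he2)
    fun h' => he1 (congrArg Subtype.val h'))).trans hzc)
  have hceL : c * e ∉ L := fun h => heL (by
    have := L.mul_mem (hzc ▸ z0.2 : c ∈ L) h
    rwa [← mul_assoc, hc2, one_mul] at this)
  by_cases hq : 5 ≤ Fintype.card F
  · exfalso
    let a : MulAut (Matrix.SpecialLinearGroup (Fin 2) F) :=
      (eL.symm.trans (MulAut.conjNormal e)).trans eL
    let α : MulAut (PSL2 F) := QuotientGroup.congr _ _ a (Linear.map_center_mulEquiv _)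
    have hαp : ∀ s, α (QuotientGroup.mk s) = QuotientGroup.mk (a s) := fun s => rfl
    have hconj : ∀ s, ((eL.symm (a s) : L) : B) = e * (eL.symm s : L) * e⁻¹ := fun s => by
      show ((eL.symm (eL (MulAut.conjNormal e (eL.symm s))) : L) : B) = _
      rw [MulEquiv.symm_apply_apply, MulAut.conjNormal_apply]
    have haa : ∀ s, a (a s) = s := fun s => by
      apply eL.symm.injective
      refine Subtype.ext ?_
      rw [hconj, hconj]
      calc e * (e * (eL.symm s : L) * e⁻¹) * e⁻¹ = (e * e) * (eL.symm s : L) * (e * e)⁻¹ := by group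
        _ = (eL.symm s : L) := by rw [he2, one_mul, inv_one, mul_one]
    have hα : α * α = 1 := MulEquiv.ext fun x => by
      obtain ⟨s, rfl⟩ := QuotientGroup.mk_surjective x
      rw [MulAut.mul_apply, hαp, hαp, haa, MulAut.one_apply]
    -- fixed elements
    have hfixsl : ∀ s, a s = s → s = 1 ∨ s = -1 := fun s hs => by
      have h1 := hconj s
      rw [hs] at h1
      rcases hCe (eL.symm s : L) (mul_inv_eq_iff_eq_mul.1 h1.symm).symm with h | h | h | h
      · exact Or.inl (eL.symm.injective ((Subtype.ext h).trans (map_one eL.symm).symm))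
      · exact Or.inr (eL.symm.injective (Subtype.ext (h.trans hzc.symm)))
      · exact absurd (h ▸ (eL.symm s).2) heL
      · exact absurd (h ▸ (eL.symm s).2) hceL
    have hlift : ∀ x, α x = x → x ≠ 1 → ∃ s, QuotientGroup.mk s = x ∧ a s = -s := fun x hx hx1 => by
      obtain ⟨s, rfl⟩ := QuotientGroup.mk_surjective x
      rw [hαp] at hx
      rcases mk_eq_mk_iff.1 hx with h | h
      · refine absurd ?_ hx1
        rcases hfixsl s h with rfl | rfl
        · rfl
        · exact mk_eq_mk_iff.2 (Or.inr (by simp))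
      · exact ⟨s, rfl, h⟩
    have hsub : ∀ x y, α x = x → α y = y → x ≠ 1 → y ≠ 1 → x = y := fun x y hx hy hx1 hy1 => by
      obtain ⟨s, rfl, hs⟩ := hlift x hx hx1
      obtain ⟨t, rfl, ht⟩ := hlift y hy hy1
      have h := hfixsl (s⁻¹ * t) (by rw [map_mul, map_inv, hs, ht, inv_neg, neg_mul_neg])
      refine mk_eq_mk_iff.2 ?_
      rcases h with h | h
      · exact Or.inl (eq_of_inv_mul_eq_one h)
      · refine Or.inr ?_
        rw [inv_mul_eq_iff_eq_mul, mul_neg, mul_one] at h
        rw [h, neg_neg]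
    obtain ⟨g, -, -, n, D, hn, -, -, ⟨eD⟩, hfix⟩ := GWCons.outer_of_noKlein
      (by rwa [Nat.card_eq_fintype_card]) (by rwa [Nat.card_eq_fintype_card]) hα
      (fun x y hx hy _ _ _ hx1 hy1 => hsub x y hx hy hx1 hy1)
    have hle : Nat.card D ≤ 2 := by
      by_contra hlt
      haveI := Fintype.ofFinite D
      have h1 : 1 < Fintype.card {v : D // v ≠ 1} := by
        rw [Fintype.card_subtype_compl, Fintype.card_subtype_eq, ← Nat.card_eq_fintype_card]
        omega
      obtain ⟨x, y, hxy⟩ := Fintype.exists_pair_of_one_lt_card h1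
      exact hxy (Subtype.ext (Subtype.ext (hsub _ _ (hfix _ x.1.2) (hfix _ y.1.2)
        (fun h => x.2 (Subtype.ext h)) (fun h => y.2 (Subtype.ext h)))))
    rw [Nat.card_congr eD.toEquiv, DihedralGroup.nat_card] at hle
    omega
  -- the solvable case
  have hq3 : Fintype.card F = 3 := by
    have := Fintype.one_lt_card (α := F)
    have := Nat.odd_iff.1 hodd
    omega
  have hL24 : Nat.card L = 24 := by
    rw [Nat.card_congr eL.toEquiv, GLOrder.card_SL_two, Nat.card_eq_fintype_card, hq3]; norm_num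
  haveI : Group.IsSolvable B := (Group.isSolvable_iff_subgroup_quotient L).2
    ⟨PSL2.isSolvable_of_card_two_three (by rw [hL24]; decide),
      Group.isSolvable_of_comm fun a b => mul_comm (G := Abelianization B) a b⟩
  obtain ⟨y, hy⟩ := exists_prime_orderOf_dvd_card' (G := B) 3
    (Dvd.dvd.trans (by rw [hL24]; norm_num) L.card_subgroup_dvd_card)
  have hy1 : y ≠ 1 := fun h => by rw [h, orderOf_one] at hy; norm_num at hy
  have hyco : (orderOf y).Coprime 2 := by rw [hy]; norm_num
  have hCP := SylowLift.centralizer_pCore_le_of_solvable (p := 2) hO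
  obtain ⟨X, hX⟩ := S2879.shape_quasiDihedral (S : Subgroup B) hS
  have hcX : c ∈ X := by
    by_contra hcX
    obtain ⟨w, hwT, hwX, -, x₀, hx₀, hwx⟩ := hX.involution
    haveI := hX.cyclic
    refine hwx ?_
    have hm := hX.mul_mem c hcS w hwT hcX hwX
    have hcomm : c * w * x₀ = x₀ * (c * w) :=
      congrArg Subtype.val ((IsCyclic.isMulCommutative (α := X)).is_comm.comm ⟨_, hm⟩ ⟨x₀, hx₀⟩)
    calc w * x₀ = c * (c * w * x₀) := by rw [← mul_assoc, ← mul_assoc, hc2, one_mul]
      _ = c * x₀ * (c * w) := by rw [hcomm, mul_assoc]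
      _ = x₀ * w := by rw [← hcc x₀, mul_assoc, ← mul_assoc c c, hc2, one_mul]
  obtain ⟨eQ⟩ := S2879.pCore_quaternion hCP S hX hyco hy1 hcX (by rw [pow_two, hc2]) hc1 hcc
  haveI : (Cfsg.pCore 2 B).Normal := Cores.pCore_normal 2 B
  have hns : ∀ T : Sylow 2 B, ¬ (T : Subgroup B).Normal := fun T hT => by
    haveI := hT
    obtain ⟨n, ⟨d⟩⟩ := QDWreath.nonempty_qdData (QGroup.isQuasiDihedral_congr (S.equiv T) hS)
    have hy' : y ∈ normalizer ((T : Subgroup B) : Set B) := by rw [normalizer_eq_top]; exact mem_top y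
    have hcent := Transfer.centralizes_of_isPGroup_mulAut (Transfer.SD.isPGroup_mulAut d) hy' hyco
    have hymem : y ∈ Cfsg.pCore 2 B := hCP (mem_centralizer_iff.2 fun v hv =>
      mem_centralizer_iff.1 hcent v (Cores.pCore_le_sylow T hv))
    obtain ⟨k, hk⟩ := IsPGroup.iff_orderOf.1 (Cores.isPGroup_pCore 2 B) ⟨y, hymem⟩
    rw [Subgroup.orderOf_mk, hy] at hk
    exact absurd (Nat.Prime.dvd_of_dvd_pow (m := 2) (n := k) Nat.prime_three (by rw [← hk])) (by norm_num)
  rcases S3304.structure_of_q8 (Cfsg.pCore 2 B) hCP eQ hns with h | ⟨-, -, -, hP⟩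
  · exact h
  exfalso
  obtain ⟨T, hT⟩ := (IsPGroup.of_card (n := 1) (by rw [Nat.card_zpowers, he, pow_one]) :
    IsPGroup 2 (zpowers e)).exists_le_sylow
  obtain ⟨f⟩ := hP T
  have hcT : c ∈ (T : Subgroup B) := by
    refine Cores.pCore_le_sylow T ?_
    exact hCP (mem_centralizer_iff.2 fun g _ => hcc g)
  have := quat_unique (k := 1) (p := f ⟨e, hT (mem_zpowers e)⟩) (q := f ⟨c, hcT⟩)
    (by rw [MulEquiv.orderOf_eq, Subgroup.orderOf_mk, he]) (by rw [MulEquiv.orderOf_eq, Subgroup.orderOf_mk, hc])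
  exact hne (congrArg Subtype.val (f.injective this))

section Table

open GL23Cent

theorem eps_split : ∀ k : Fin 48, eps k = 1 → ∃ r r' : Fin 48, isRefl r ∧ isRefl r' ∧ k = mul r r' := by
  decide +kernel

theorem refl_conj : ∀ r r' : Fin 48, isRefl r → isRefl r' → ∃ g : Fin 48, mul g r = mul r' g := by
  decide +kernel

theorem eps_mul_refl : ∀ k r : Fin 48, isRefl r → eps k ≠ 1 → eps (mul k r) = 1 := by
  decide +kernel

end Table

variable {G : Type u} [Group G] [Finite G]

/-- The hypothesis of `GL23Core` from an isomorphism `C/O ≅ GL(2,3)`. -/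
theorem exists_setup {c : G} (hc : orderOf c = 2)
    (π : GL23Core.Cen c →* GL (Fin 2) (ZMod 3)) (hπ : Function.Surjective π)
    (hker : Odd (Nat.card π.ker)) {e : GL23Core.Cen c} (he : e * e = 1) (hec : (e : G) ≠ c) (he1 : e ≠ 1)
    (hinv : ∀ o ∈ π.ker, e * o * e⁻¹ = o⁻¹)
    (hfused : ∀ p : G, orderOf p = 2 → IsConj c p) : Nonempty (GL23Core.Setup c) := by
  have hodd2 : ∀ o ∈ π.ker, o * o = 1 → o = 1 := fun o ho h2 => by
    obtain ⟨k, hk⟩ := hker
    have h : (⟨o, ho⟩ : π.ker) ^ Nat.card π.ker = 1 := pow_card_eq_one'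
    have h' : o ^ Nat.card π.ker = 1 := by simpa using congrArg Subtype.val h
    rwa [hk, pow_succ, pow_mul, sq, h2, one_pow, one_mul] at h'
  let φ : GL23Core.Cen c → Fin 48 := fun x => GL23Core.tab.φ (π x)
  have hφmul : ∀ x y, φ (x * y) = GL23Cent.mul (φ x) (φ y) := fun x y => by
    show GL23Core.tab.φ (π (x * y)) = _
    rw [map_mul, GL23Core.tab.φ_mul]
  have hφeq : ∀ x y, φ x = φ y → x⁻¹ * y ∈ π.ker := fun x y h => by
    rw [MonoidHom.mem_ker, map_mul, map_inv, GL23Core.tab.φ.injective h, inv_mul_cancel]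
  have hsurj : ∀ k, ∃ x, φ x = k := fun k => by
    obtain ⟨a, rfl⟩ := GL23Core.tab.φ.surjective k
    obtain ⟨x, rfl⟩ := hπ a
    exact ⟨x, rfl⟩
  have hone : φ 1 = GL23Cent.k1 := by
    show GL23Core.tab.φ (π 1) = _
    rw [map_one, GL23Core.tab.φ_one]
  set t : GL23Core.Cen c := ⟨c, mem_centralizer_singleton_iff.2 rfl⟩ with ht
  have htt : t * t = 1 := Subtype.ext (Involution.mul_self hc)
  have htc : ∀ x, x * t = t * x := fun x => Subtype.ext (mem_centralizer_singleton_iff.1 x.2)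
  have hφt : φ t = GL23Cent.kz := by
    refine GL23Cent.kz_unique _ (by rw [← hφmul, htt, hone]) (fun h => ?_) fun k => ?_
    · have h1 : t = 1 := hodd2 t (MonoidHom.mem_ker.2 ((GL23Core.tab.eq_one_iff).1 h)) htt
      exact Involution.ne_one hc (congrArg Subtype.val h1)
    · obtain ⟨x, rfl⟩ := hsurj k
      rw [← hφmul, ← hφmul, htc]
  have href : GL23Cent.isRefl (φ e) := by
    refine ⟨by rw [← hφmul, he, hone], fun h => he1 ?_, fun h => hec ?_⟩
    · exact hodd2 e (MonoidHom.mem_ker.2 ((GL23Core.tab.eq_one_iff).1 h)) he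
    · have hte : (t * e) * (t * e) = 1 := by
        rw [mul_assoc, ← mul_assoc e t e, htc e, mul_assoc t e e, he, mul_one, htt]
      have h1 : t * e = 1 := hodd2 _ (by
        rw [MonoidHom.mem_ker, ← GL23Core.tab.eq_one_iff]
        show φ (t * e) = _
        rw [hφmul, h, hφt]; exact GL23Cent.kz_sq.1) hte
      have h2 : t⁻¹ = e := inv_eq_of_mul_eq_one_right h1
      rw [inv_eq_of_mul_eq_one_right htt] at h2
      exact (congrArg Subtype.val h2).symm
  haveI : π.ker.Normal := inferInstance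
  -- every element lying over a reflection inverts
  have hrefl : ∀ x, GL23Cent.isRefl (φ x) → ∀ o ∈ π.ker, x * o * x⁻¹ = o⁻¹ := by
    intro x hx o ho
    obtain ⟨g, hg⟩ := refl_conj _ _ href hx
    obtain ⟨y, rfl⟩ := hsurj g
    set r := y * e * y⁻¹ with hr
    have hrx : φ r = φ x := by
      have h1 : φ (x * y) = φ (y * e) := by rw [hφmul, hφmul, hg]
      have h2 : φ (r * y) = φ (x * y) := by rw [h1, hr, inv_mul_cancel_right]
      rw [show r = r * y * y⁻¹ by group, show x = x * y * y⁻¹ by group, hφmul (r * y), hφmul (x * y), h2]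
    have hinvo : ∀ o ∈ π.ker, r * o * r⁻¹ = o⁻¹ := fun o ho => by
      have h3 := hinv _ (Subgroup.Normal.conj_mem inferInstance o ho y⁻¹)
      calc r * o * r⁻¹ = y * (e * (y⁻¹ * o * y⁻¹⁻¹) * e⁻¹) * y⁻¹ := by rw [hr]; group
        _ = y * (y⁻¹ * o * y⁻¹⁻¹)⁻¹ * y⁻¹ := by rw [h3]
        _ = o⁻¹ := by group
    have hk := hφeq r x hrx
    have hab : (r⁻¹ * x) * o = o * (r⁻¹ * x) := by
      have h1 := hinvo _ (π.ker.mul_mem hk ho)
      rw [show r * (r⁻¹ * x * o) * r⁻¹ = (r * (r⁻¹ * x) * r⁻¹) * (r * o * r⁻¹) by group, hinvo _ hk,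
        hinvo _ ho, ← mul_inv_rev, inv_inj] at h1
      exact h1.symm
    calc x * o * x⁻¹ = r * ((r⁻¹ * x) * o * (r⁻¹ * x)⁻¹) * r⁻¹ := by group
      _ = r * o * r⁻¹ := by rw [hab, mul_inv_cancel_right]
      _ = o⁻¹ := hinvo o ho
  have hcomm : ∀ x, GL23Cent.eps (φ x) = 1 → ∀ o ∈ π.ker, x * o * x⁻¹ = o := by
    intro x hx o ho
    obtain ⟨r, r', hr, hr', hk⟩ := eps_split _ hx
    obtain ⟨a, rfl⟩ := hsurj r
    obtain ⟨b, rfl⟩ := hsurj r'
    rw [← hφmul] at hk
    have hd := hφeq (a * b) x hk.symm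
    have hab : ((a * b)⁻¹ * x) * o = o * ((a * b)⁻¹ * x) := by
      have h1 := hrefl a hr _ (π.ker.mul_mem hd ho)
      rw [show a * ((a * b)⁻¹ * x * o) * a⁻¹ = (a * ((a * b)⁻¹ * x) * a⁻¹) * (a * o * a⁻¹) by group,
        hrefl a hr _ hd, hrefl a hr _ ho, ← mul_inv_rev, inv_inj] at h1
      exact h1.symm
    calc x * o * x⁻¹ = a * (b * (((a * b)⁻¹ * x) * o * ((a * b)⁻¹ * x)⁻¹) * b⁻¹) * a⁻¹ := by group
      _ = a * (b * o * b⁻¹) * a⁻¹ := by rw [hab, mul_inv_cancel_right]
      _ = o := by rw [hrefl b hr' _ ho, hrefl a hr _ (π.ker.inv_mem ho), inv_inv]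
  refine ⟨⟨hc, π, hπ, hker, fun x o ho h => hcomm x h o ho, fun x o ho h => ?_, hfused⟩⟩
  have h1 := hcomm (x * e) (by rw [hφmul]; exact eps_mul_refl _ _ href h) (o⁻¹) (π.ker.inv_mem ho)
  rw [show x * e * o⁻¹ * (x * e)⁻¹ = x * (e * o⁻¹ * e⁻¹) * x⁻¹ by group,
    hinv _ (π.ker.inv_mem ho), inv_inv] at h1
  exact h1

/-- A simple group with semidihedral Sylow 2-subgroups and a self-centralizing four group. -/
theorem sd_core [IsSimpleGroup G] (hna : ¬ IsMulCommutative G) {S : Sylow 2 G}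
    (hS : Cfsg.IsQuasiDihedral (S : Subgroup G)) {V : Subgroup G} (hV : IsKleinFour V)
    (hC : centralizer (V : Set G) = V) :
    Nonempty (G ≃* Matrix.ProjectiveSpecialLinearGroup (Fin 3) (ZMod 3)) ∨ Cfsg.Spor.IsoM11 G := by
  classical
  haveI := Fact.mk Nat.prime_two
  obtain ⟨T, hVT⟩ := (IsPGroup.of_card (n := 2) (by rw [hV.card_four]; norm_num) :
    IsPGroup 2 V).exists_le_sylow
  have hT : Cfsg.IsQuasiDihedral (T : Subgroup G) := QGroup.isQuasiDihedral_congr (S.equiv T) hS
  obtain ⟨n, hn, hTcard, -⟩ := id hT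
  -- the central involution
  haveI : Nontrivial (T : Subgroup G) := Finite.one_lt_card_iff_nontrivial.1 (by
    rw [hTcard]; exact Nat.one_lt_two_pow (by omega))
  haveI := T.isPGroup'.center_nontrivial
  obtain ⟨k, hk0, hk⟩ := (T.isPGroup'.to_subgroup (center (T : Subgroup G))).nontrivial_iff_card.mp
    inferInstance
  obtain ⟨u, hu⟩ := exists_prime_orderOf_dvd_card' (G := center (T : Subgroup G)) 2
    (by rw [hk]; exact dvd_pow_self 2 hk0.ne')
  set c : G := ((u : (T : Subgroup G)) : G) with hcdef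
  have hc : orderOf c = 2 := by rw [hcdef, orderOf_coe, orderOf_coe, hu]
  have hTc : (T : Subgroup G) ≤ centralizer ({c} : Set G) := fun x hx =>
    mem_centralizer_singleton_iff.2 (congrArg Subtype.val (mem_center_iff.1 u.2 ⟨x, hx⟩))
  have hcV : c ∈ V := by
    rw [← hC]
    exact mem_centralizer_iff.2 fun v hv =>
      congrArg Subtype.val (mem_center_iff.1 u.2 ⟨v, hVT hv⟩)
  obtain ⟨e, heV, he, hec⟩ : ∃ e ∈ V, orderOf e = 2 ∧ e ≠ c := by
    obtain ⟨a, ha, b, hb, hao, hbo, hab⟩ := klein_two hV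
    rcases ne_or_eq a c with h | rfl
    · exact ⟨a, ha, hao, h⟩
    · exact ⟨b, hb, hbo, hab.symm⟩
  have hc2 := Involution.mul_self hc
  have he2 := Involution.mul_self he
  have hVel : ∀ v ∈ V, v = 1 ∨ v = c ∨ v = e ∨ v = c * e := by
    intro v hv
    by_cases h1 : v = 1
    · exact Or.inl h1
    by_cases h2 : v = c
    · exact Or.inr (Or.inl h2)
    by_cases h3 : v = e
    · exact Or.inr (Or.inr (Or.inl h3))
    refine Or.inr (Or.inr (Or.inr ?_))
    exact congrArg Subtype.val (IsKleinFour.eq_mul_of_ne_all (x := (⟨c, hcV⟩ : V)) (y := ⟨e, heV⟩)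
      (z := ⟨v, hv⟩) (fun h => Involution.ne_one hc (congrArg Subtype.val h))
      (fun h => Involution.ne_one he (congrArg Subtype.val h)) (fun h => hec (congrArg Subtype.val h).symm)
      (fun h => h1 (congrArg Subtype.val h)) (fun h => h2 (congrArg Subtype.val h))
      (fun h => h3 (congrArg Subtype.val h)))
  have hcec : e * c = c * e := mem_centralizer_singleton_iff.1 (hTc (hVT heV))
  have hcent : ∀ x : G, x * c = c * x → x * e = e * x → x ∈ V := fun x h1 h2 => by
    rw [← hC, mem_centralizer_iff]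
    intro v hv
    rcases hVel v hv with rfl | rfl | rfl | rfl
    · rw [one_mul, mul_one]
    · exact h1.symm
    · exact h2.symm
    · rw [← mul_assoc, h1, mul_assoc, mul_assoc, h2]
  -- the centralizer and its core
  set C := GL23Core.Cen c
  set R : Sylow 2 C := T.subtype hTc with hR
  have hRsd : Cfsg.IsQuasiDihedral (R : Subgroup C) :=
    QGroup.isQuasiDihedral_congr (subgroupOfEquivOfLe hTc).symm hT
  set c₀ : C := ⟨c, mem_centralizer_singleton_iff.2 rfl⟩ with hc₀
  set e₀ : C := ⟨e, hTc (hVT heV)⟩ with he₀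
  set O := Cfsg.pPrimeCore 2 C with hO
  haveI : O.Normal := by rw [hO]; infer_instance
  have hOodd : Odd (Nat.card O) := Nat.coprime_two_right.1 (Cores.coprime_card_pPrimeCore 2)
  have hodd1 : ∀ o ∈ O, o * o = 1 → o = 1 := fun o ho h2 => by
    obtain ⟨k, hk⟩ := hOodd
    have h : (⟨o, ho⟩ : O) ^ Nat.card O = 1 := pow_card_eq_one'
    have h' : o ^ Nat.card O = 1 := congrArg Subtype.val h
    rwa [hk, pow_succ, pow_mul, sq, h2, one_pow, one_mul] at h'
  have hinv : ∀ o ∈ O, e₀ * o * e₀⁻¹ = o⁻¹ := fun o ho => by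
    refine DGroup.inverts_of_no_fixed (by rw [he₀, Subgroup.orderOf_mk, he])
      (fun y hy => Subgroup.Normal.conj_mem inferInstance y hy e₀) (fun y hy hye => hodd1 y hy ?_) ho
    have hyV := hcent y (mem_centralizer_singleton_iff.1 y.2) (congrArg Subtype.val hye.eq)
    have h2 : (y : G) * y = 1 := (congrArg Subtype.val (hV.mul_self ⟨(y : G), hyV⟩) :)
    exact Subtype.ext h2
  set p := QuotientGroup.mk' O with hp
  have hps : Function.Surjective p := QuotientGroup.mk'_surjective _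
  have hpk : p.ker = O := QuotientGroup.ker_mk' _
  have hcop : (Nat.card p.ker).Coprime 2 := by rw [hpk]; exact Cores.coprime_card_pPrimeCore 2
  obtain ⟨eR⟩ := QGroup.sylow_equiv_mapSurjective hps hcop R
  have hinj : ∀ x : C, x * x = 1 → p x = 1 → x = 1 := fun x h2 hx =>
    hodd1 x ((QuotientGroup.eq_one_iff x).1 hx) h2
  have hc₀2 : c₀ * c₀ = 1 := Subtype.ext hc2
  have he₀2 : e₀ * e₀ = 1 := Subtype.ext he2
  have hord : ∀ x : C, x * x = 1 → x ≠ 1 → orderOf (p x) = 2 := fun x h2 h1 =>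
    Involution.orderOf_of_sq (by rw [← map_mul, h2, map_one]) fun h => h1 (hinj x h2 h)
  have hce : c₀ * e₀ = e₀ * c₀ := Subtype.ext hcec.symm
  -- centralizer of the image of `e`
  have hCe : ∀ q : C ⧸ O, q * p e₀ = p e₀ * q → q = 1 ∨ q = p c₀ ∨ q = p e₀ ∨ q = p c₀ * p e₀ := by
    intro q hq
    obtain ⟨x, rfl⟩ := hps q
    have ho : x * e₀ * x⁻¹ * e₀⁻¹ ∈ O := by
      rw [← hpk, MonoidHom.mem_ker, map_mul, map_mul, map_mul, map_inv, map_inv, hq]
      group
    set o := x * e₀ * x⁻¹ * e₀⁻¹ with hodef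
    obtain ⟨k, hk⟩ := hOodd
    set w := o ^ (k + 1) with hw
    have hww : w * w = o := by
      have h : (⟨o, ho⟩ : O) ^ Nat.card O = 1 := pow_card_eq_one'
      have h' : o ^ Nat.card O = 1 := congrArg Subtype.val h
      rw [hw, ← pow_add, show k + 1 + (k + 1) = (2 * k + 1) + 1 by ring, pow_succ, ← hk, h', one_mul]
    have hwO : w ∈ O := O.pow_mem ho _
    have hwe : w * e₀ * w⁻¹ = o * e₀ := by
      have := hinv _ (O.inv_mem hwO)
      rw [inv_inv] at this
      calc w * e₀ * w⁻¹ = w * (e₀ * w⁻¹ * e₀⁻¹) * e₀ := by group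
        _ = o * e₀ := by rw [this, hww]
    have hx : (w⁻¹ * x) * e₀ = e₀ * (w⁻¹ * x) := by
      have h1 : x * e₀ * x⁻¹ = w * e₀ * w⁻¹ := by rw [hwe, hodef, inv_mul_cancel_right]
      calc w⁻¹ * x * e₀ = w⁻¹ * (x * e₀ * x⁻¹) * x := by group
        _ = w⁻¹ * (w * e₀ * w⁻¹) * x := by rw [h1]
        _ = e₀ * (w⁻¹ * x) := by group
    have hmem := hcent _ (mem_centralizer_singleton_iff.1 (w⁻¹ * x).2) (congrArg Subtype.val hx)
    have hpx : p x = p (w⁻¹ * x) := by
      rw [map_mul, map_inv, show p w = 1 from (QuotientGroup.eq_one_iff w).2 hwO, inv_one, one_mul]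
    rw [hpx]
    rcases hVel _ hmem with h | h | h | h
    · left; rw [show w⁻¹ * x = 1 from Subtype.ext h, map_one]
    · exact Or.inr (Or.inl (congrArg p (Subtype.ext h)))
    · exact Or.inr (Or.inr (Or.inl (congrArg p (Subtype.ext h))))
    · right; right; right; rw [← map_mul]; exact congrArg p (Subtype.ext h)
  have hno : ∀ K : Subgroup G, K.index ≠ 2 := fun K hK => by
    haveI := normal_of_index_eq_two hK
    rcases (‹K.Normal›).eq_bot_or_eq_top with h | h
    · rw [h, index_bot] at hK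
      exact hna (haveI := isCyclic_of_prime_card hK; IsCyclic.isMulCommutative)
    · rw [h, index_top] at hK; omega
  obtain ⟨F, _, _, hodd, ⟨eL⟩⟩ :=
    QGroup.result_centralizer GWDihedral.dihedralGW.{u} T (Or.inl hT) hno c hc
  obtain ⟨eGL⟩ := bar_gl (B := C ⧸ O) (Cores.pPrimeCore_quotient_self 2) (R.mapSurjective hps)
    (QGroup.isQuasiDihedral_congr eR hRsd) (c := p c₀) (e := p e₀)
    (hord c₀ hc₀2 fun h => Involution.ne_one hc (congrArg Subtype.val h))
    (fun q => by
      obtain ⟨x, rfl⟩ := hps q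
      rw [← map_mul, ← map_mul]
      exact congrArg p (Subtype.ext (mem_centralizer_singleton_iff.1 x.2)))
    ⟨c₀, (show c₀ ∈ (R : Subgroup C) from mem_subgroupOf.2 (hVT hcV)), rfl⟩
    (hord e₀ he₀2 fun h => Involution.ne_one he (congrArg Subtype.val h))
    (fun h => hec (congrArg Subtype.val (show e₀ = c₀ by
      have h2 : (e₀ * c₀) * (e₀ * c₀) = 1 := by
        rw [mul_assoc, ← mul_assoc c₀ e₀ c₀, hce, mul_assoc e₀ c₀ c₀, hc₀2, mul_one, he₀2]
      have h1 := hinj _ h2 (by rw [map_mul, h, ← map_mul, hc₀2, map_one])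
      rw [← inv_eq_of_mul_eq_one_right hc₀2]
      exact eq_inv_of_mul_eq_one_left h1)))
    hCe hodd eL
  set π : C →* GL (Fin 2) (ZMod 3) := eGL.toMonoidHom.comp p with hπ
  have hπk : π.ker = O := by
    rw [hπ, MonoidHom.ker_comp_of_injective _ _ eGL.injective, hpk]
  obtain ⟨Su⟩ := exists_setup hc π (eGL.surjective.comp hps) (by rw [hπk]; exact hOodd)
    (e := e₀) he₀2 hec (fun h => Involution.ne_one he (congrArg Subtype.val h)) (by rw [hπk]; exact hinv)
    (fun q hq => isConj_involutions hna T (Or.inr hT) hc hq)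
  haveI := Fintype.ofFinite G
  haveI := Fintype.ofFinite (GL23Core.Cen c)
  haveI := Fintype.ofFinite Su.C0
  have hres : Cfsg.pResidual 2 G = ⊤ := by
    by_contra h
    obtain ⟨K, hK⟩ := Transfer.exists_index_two_iff.2 h
    exact hno K hK
  rcases S2916.result hres c hc Su.centralizer_equiv with ⟨F', _, _, hF', ⟨f⟩⟩ | h
  · haveI : Fact (Nat.Prime 3) := ⟨Nat.prime_three⟩
    refine Or.inl ⟨f.trans ?_⟩
    exact Linear.pslMapEquiv (FiniteField.ringEquivOfCardEq (K' := ZMod 3) (hF'.trans (ZMod.card 3).symm))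
  · exact Or.inr h

end Cfsg.Agent.SubThree
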