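/-
Facts on `PSL₂(q)` for the suborbit-three classification.
-/
import Cfsg.Agent.Lib.GWCons.InvolAut
import Cfsg.Agent.Lib.GWCons.SmallAut
import Cfsg.Agent.Lib.PSL2.KleinCentre
import Cfsg.Agent.S5892
import Cfsg.Agent.S2119

set_option autoImplicit false
set_option linter.unusedSectionVars false
set_option linter.style.haveILetI false

open Matrix Subgroup

namespace Cfsg.Agent.SubThree

open Cfsg.Agent.PSL2 Cfsg.Agent.AutPSL

local notation "φ" => (ProjectiveSpecialLinearGroup.toPGL)

variable {F : Type} [Field F]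

/-- `F` has prime order, so is the prime field. -/
theorem psl_zmod [Fintype F] {p : ℕ} [Fact p.Prime] (h : Fintype.card F = p) :
    Nonempty (PSL2 F ≃* ProjectiveSpecialLinearGroup (Fin 2) (ZMod p)) :=
  ⟨PSL2.pslEquiv (FiniteField.ringEquivOfCardEq (K' := ZMod p) (h.trans (ZMod.card p).symm))⟩

/-- An involution centralizer of order twelve. -/
theorem centralizer_twelve [Finite F] (hodd : Odd (Nat.card F)) {x : PSL2 F} (hx : orderOf x = 2)
    (h : Nat.card (centralizer ({x} : Set (PSL2 F))) = 12) : Nat.card F = 11 ∨ Nat.card F = 13 := by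
  obtain ⟨h1, h3⟩ := card_centralizer_involution hodd hx
  have h2 := Nat.odd_iff.1 hodd
  rcases (show Nat.card F % 4 = 1 ∨ Nat.card F % 4 = 3 by omega) with r | r
  · have := h1 r; omega
  · have := h3 r; omega

theorem perm_four_orders : ∀ x : Equiv.Perm (Fin 4), x ^ 4 = 1 ∨ x ^ 3 = 1 := by decide +kernel

/-- A maximal `S₄` with sixteen dividing the group order. -/
theorem coatom_permFour [Fintype F] (hodd : Odd (Fintype.card F)) {M : Subgroup (PSL2 F)}
    (hM : IsCoatom M) (e : M ≃* Equiv.Perm (Fin 4)) (h16 : 16 ∣ Nat.card (PSL2 F)) :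
    ∃ p : ℕ, p.Prime ∧ (p % 16 = 1 ∨ p % 16 = 15) ∧ Fintype.card F = p := by
  obtain ⟨p, hp⟩ := CharP.exists F
  haveI : Fact p.Prime := ⟨CharP.char_is_prime F p⟩
  have hc : 2 * Nat.card (PSL2 F) =
      Fintype.card F * ((Fintype.card F + 1) * (Fintype.card F - 1)) := by
    have h := card_psl_mul (F := F)
    rw [Nat.card_eq_fintype_card (α := F), Nat.gcd_eq_left (show 2 ∣ Fintype.card F - 1 by obtain ⟨k, hk⟩ := hodd; omega)] at h
    exact h
  have h32 : 32 ∣ (Fintype.card F + 1) * (Fintype.card F - 1) := by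
    have h : 32 ∣ Fintype.card F * ((Fintype.card F + 1) * (Fintype.card F - 1)) :=
      hc ▸ (show 2 * 16 = 32 from rfl) ▸ mul_dvd_mul_left 2 h16
    exact (Nat.Coprime.pow_left 5 (Nat.coprime_two_left.2 hodd) : Nat.Coprime (2 ^ 5) _).dvd_of_dvd_mul_left h
  have h5 : 5 ≤ Fintype.card F := by
    have h2 := Nat.odd_iff.1 hodd
    by_contra hlt
    rcases (show Fintype.card F = 1 ∨ Fintype.card F = 3 by omega) with r | r
    · exact absurd (Fintype.one_lt_card (α := F)) (by omega)
    · rw [r] at h32; norm_num at h32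
  have hMc : Nat.card M = 24 := by rw [Nat.card_congr e.toEquiv, card_perm_four]
  have hdih : ∀ k : ℕ, (M ≃* DihedralGroup k) → False := fun k f => by
    have hk : k = 12 := by
      have := Nat.card_congr f.toEquiv
      rw [hMc, DihedralGroup.nat_card] at this
      omega
    subst hk
    have ho : orderOf (e (f.symm (DihedralGroup.r 1))) = 12 := by
      rw [MulEquiv.orderOf_eq, MulEquiv.orderOf_eq, DihedralGroup.orderOf_r_one]
    rcases perm_four_orders (e (f.symm (DihedralGroup.r 1))) with h | h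
    all_goals
      have := orderOf_dvd_of_pow_eq_one h
      rw [ho] at this
      norm_num at this
  rcases S5892.result p hodd h5 M hM with h | ⟨-, k, -, ⟨f⟩⟩ | ⟨-, -, k, -, ⟨f⟩⟩ |
    ⟨F₀, _, _, hq, ⟨f⟩⟩ | ⟨F₀, _, _, r, -, -, -, ⟨f⟩⟩ | ⟨-, -, ⟨f⟩⟩ | ⟨-, -, -, ⟨f⟩⟩ | ⟨hq, -, -⟩
  · exfalso
    rw [hMc] at h
    have h8 : Fintype.card F ≤ 7 := by
      by_contra hlt
      have : 8 * 7 ≤ Fintype.card F * (Fintype.card F - 1) := Nat.mul_le_mul (by omega) (by omega)
      omega
    interval_cases Fintype.card F <;> norm_num at h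
  · exact (hdih k f).elim
  · exact (hdih k f).elim
  · exfalso
    have hc' := card_pgl_eq (F := F₀)
    rw [Nat.card_congr f.symm.toEquiv, hMc, Nat.card_eq_fintype_card] at hc'
    have h4 : Fintype.card F₀ ≤ 3 := by
      by_contra hlt
      have : 4 * (5 * 3) ≤ Fintype.card F₀ * ((Fintype.card F₀ + 1) * (Fintype.card F₀ - 1)) :=
        Nat.mul_le_mul (by omega) (Nat.mul_le_mul (by omega) (by omega))
      omega
    rw [hq] at h32
    interval_cases Fintype.card F₀ <;> first | (norm_num at hc'; done) | (norm_num at h32)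
  · exfalso
    have hc' := card_psl_mul (F := F₀)
    rw [Nat.card_congr f.symm.toEquiv, hMc, Nat.card_eq_fintype_card] at hc'
    have hd : Nat.gcd 2 (Fintype.card F₀ - 1) ≤ 2 := Nat.le_of_dvd two_pos (Nat.gcd_dvd_left _ _)
    have h4 : Fintype.card F₀ ≤ 4 := by
      by_contra hlt
      have : 5 * (6 * 4) ≤ Fintype.card F₀ * ((Fintype.card F₀ + 1) * (Fintype.card F₀ - 1)) :=
        Nat.mul_le_mul (by omega) (Nat.mul_le_mul (by omega) (by omega))
      have := Nat.mul_le_mul_right 24 hd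
      omega
    interval_cases Fintype.card F₀ <;> norm_num at hc'
  · have := Nat.card_congr f.toEquiv
    rw [hMc, card_alt_five] at this
    omega
  · have := Nat.card_congr f.toEquiv
    rw [hMc, card_alt_four] at this
    omega
  · have hp16 : p % 16 = 1 ∨ p % 16 = 15 := by
      rw [hq] at h32 hodd
      have h2 := Nat.odd_iff.1 hodd
      have h1 : 1 ≤ p := by omega
      have hm : ((p + 1) * (p - 1)) % 32 = 0 := Nat.mod_eq_zero_of_dvd h32
      rw [Nat.mul_mod, Nat.add_mod, show (p - 1) % 32 = (p % 32 + 31) % 32 by omega] at hm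
      have h3 := Nat.mod_lt p (show 32 > 0 by norm_num)
      generalize hr : p % 32 = r at hm h3
      have h4 : r % 2 = 1 := by omega
      interval_cases r <;> omega
    exact ⟨p, Fact.out, hp16, hq⟩

/-- An involutory automorphism whose fixed points form an `S₄` is inner unless `q = 9`. -/
theorem inner_of_fix_permFour [Finite F] (hodd : Odd (Nat.card F)) (h9 : Nat.card F ≠ 9)
    {α : MulAut (PSL2 F)} (hα : α * α = 1) {K : Subgroup (PSL2 F)} (e : K ≃* Equiv.Perm (Fin 4))
    (hK : ∀ x, α x = x ↔ x ∈ K) : ∃ v, α = MulAut.conj v := by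
  classical
  have h2 : (2 : F) ≠ 0 := two_ne_zero_iff_odd.2 hodd
  obtain ⟨g, σ, rfl⟩ := AutPSL.exists_semi_of_two α
  by_cases hσ : σ = RingEquiv.refl F
  · subst hσ
    obtain ⟨V, hV, hVK, -, -⟩ := exists_four K (Or.inr ⟨e⟩)
    have hmem : ProjGenLinGroup.mk g ∈ V.map φ := by
      refine mem_map_klein h2 hV fun v hv => ?_
      have h1 : φ (outConj g v) = φ v := congrArg φ ((hK v).2 (hVK hv))
      rw [toPGL_outConj, mul_inv_eq_iff_eq_mul] at h1
      exact h1.symm
    obtain ⟨v, -, hvg⟩ := hmem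
    refine ⟨v, MulEquiv.ext fun x => ProjectiveSpecialLinearGroup.toPGL_injective ?_⟩
    show φ (outConj g x) = φ (MulAut.conj v x)
    rw [toPGL_outConj, MulAut.conj_apply, map_mul, map_mul, map_inv, hvg]
  exfalso
  obtain ⟨β, hβ⟩ := GWCons.exists_field_conj h2 hσ hα
  obtain ⟨hσσ, -⟩ := semi_eq_one_iff.1 ((semi_mul g g σ σ).symm.trans hα)
  have hss : ∀ x, σ (σ x) = x := fun x => RingEquiv.congr_fun hσσ x
  let R : Subfield F := (σ : F →+* F).eqLocusField (RingHom.id F)
  have hR : ∀ {x : F}, x ∈ R ↔ σ x = x := Iff.rfl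
  -- `|F| = |R|²`
  have hsq : Nat.card F = Nat.card R * Nat.card R := by
    obtain ⟨w, hw⟩ : ∃ w, σ w ≠ w := by
      by_contra h
      push Not at h
      exact hσ (RingEquiv.ext h)
    set δ := w - σ w with hδ
    have hδ0 : δ ≠ 0 := sub_ne_zero.2 fun h => hw h.symm
    have hσδ : σ δ = -δ := by rw [hδ, map_sub, hss]; ring
    have hσ2 : σ (2 : F) = 2 := map_ofNat σ 2
    rw [← Nat.card_prod]
    refine (Nat.card_congr (Equiv.ofBijective (fun x : R × R => (x.1 : F) + x.2 * δ)
      ⟨fun x y h => ?_, fun a => ?_⟩)).symm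
    · have h' := congrArg σ h
      simp only [map_add, map_mul, hR.1 x.1.2, hR.1 x.2.2, hR.1 y.1.2, hR.1 y.2.2, hσδ] at h'
      simp only at h
      have e1 : (x.1 : F) = y.1 := by
        have : (2 : F) * x.1 = 2 * y.1 := by linear_combination h + h'
        exact mul_left_cancel₀ h2 this
      have e2 : (x.2 : F) = y.2 := by
        have : (x.2 : F) * δ = y.2 * δ := by linear_combination h - e1
        exact mul_right_cancel₀ hδ0 this
      exact Prod.ext (Subtype.ext e1) (Subtype.ext e2)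
    · have hb : σ (a - σ a) = -(a - σ a) := by rw [map_sub, hss]; ring
      refine ⟨(⟨(a + σ a) / 2, hR.2 (by rw [map_div₀, map_add, hss, hσ2]; ring)⟩,
        ⟨(a - σ a) / (2 * δ), hR.2 (by
          rw [map_div₀, map_mul, hb, hσδ, hσ2, mul_neg, neg_div_neg_eq])⟩), ?_⟩
      show (a + σ a) / 2 + (a - σ a) / (2 * δ) * δ = a
      field_simp
      ring
  -- transvections over `R` are fixed
  let u : F → SL2 F := fun a => ⟨!![1, a; 0, 1], by simp [Matrix.det_fin_two_of]⟩
  have hu : ∀ a b, u (a + b) = u a * u b := fun a b => by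
    ext i j
    rw [Matrix.SpecialLinearGroup.coe_mul]
    fin_cases i <;> fin_cases j <;> simp [u, Matrix.mul_apply, Fin.sum_univ_two, add_comm]
  let T : Multiplicative R →* PSL2 F :=
    MonoidHom.mk' (fun a => proj (Fin 2) F (u ((Multiplicative.toAdd a : R) : F))) fun a b => by
      rw [← map_mul, ← hu]
      rfl
  have hT : Function.Injective T := (injective_iff_map_eq_one _).2 fun a ha => by
    have ha' : proj (Fin 2) F ⟨!![1, ((Multiplicative.toAdd a : R) : F); 0, 1],
        by simp [Matrix.det_fin_two_of]⟩ = proj (Fin 2) F 1 := ha.trans (map_one _).symm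
    rcases mk_eq_mk_iff.1 ha' with e' | e'
    · have h01 := congrArg (fun s : SL2 F => (s : Matrix (Fin 2) (Fin 2) F) 0 1) e'
      simp at h01
      exact h01
    · have h00 := congrArg (fun s : SL2 F => (s : Matrix (Fin 2) (Fin 2) F) 0 0) e'
      simp at h00
      exact (h2 (by linear_combination h00)).elim
  have hfix : ∀ a, β (T a) ∈ K := fun a => by
    rw [← hK, hβ]
    have h1 : semi (1 : GL (Fin (0 + 2)) F) σ (T a) = T a := by
      refine semi_proj_eq _ _ ?_
      have hm : (!![1, ((Multiplicative.toAdd a : R) : F); 0, 1]).map σ =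
          !![1, ((Multiplicative.toAdd a : R) : F); 0, 1] := by
        ext i j
        fin_cases i <;> fin_cases j <;> simp [hR.1 (Multiplicative.toAdd a).2]
      simp [u, hm]
    simp [h1]
  have hdvd : Nat.card R ∣ 24 := by
    have h := Subgroup.card_dvd_of_le (show (β.toMonoidHom.comp T).range ≤ K by
      rintro _ ⟨a, rfl⟩; exact hfix a)
    rw [← Nat.card_congr (MonoidHom.ofInjective (f := β.toMonoidHom.comp T)
      (β.injective.comp hT)).toEquiv, Nat.card_congr e.toEquiv, card_perm_four,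
      Nat.card_congr (Multiplicative.toAdd (α := R))] at h
    exact h
  have hRodd : Odd (Nat.card R) := (Nat.odd_mul.1 (hsq ▸ hodd)).1
  have hR1 : 1 < Nat.card R := Finite.one_lt_card
  have h3 : Nat.card R ∣ 3 :=
    ((Nat.Coprime.pow_left 3 (Nat.coprime_two_left.2 hRodd) : Nat.Coprime (2 ^ 3) _).symm).dvd_of_dvd_mul_left hdvd
  rcases (Nat.dvd_prime Nat.prime_three).1 h3 with r | r
  · omega
  · exact h9 (by rw [hsq, r])

/-- A diagonal automorphism with fixed points dihedral of order six. -/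
theorem q_of_fix_six [Finite F] (hodd : Odd (Nat.card F)) (hq : 5 ≤ Nat.card F)
    {α : MulAut (PSL2 F)} (hα : α * α = 1) {K : Subgroup (PSL2 F)} (hK6 : Nat.card K = 6)
    (hK : ∀ x, α x = x → x ∈ K) : Nat.card F = 5 ∨ Nat.card F = 7 := by
  have hno : GWCons.NoKlein α := by
    intro x y hx hy x2 y2 hxy x1 y1
    by_contra hne
    have ho : ∀ {u : PSL2 F}, u * u = 1 → u ≠ 1 → orderOf u = 2 := fun h1 h2 =>
      Involution.orderOf_of_sq h1 h2
    let L : Subgroup (PSL2 F) := closure {x, y}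
    have hL : L ≤ K := (closure_le _).2 fun u hu => by
      rcases hu with rfl | rfl
      · exact hK _ hx
      · exact hK _ hy
    haveI : Fact (Nat.Prime 2) := ⟨Nat.prime_two⟩
    -- the four elements `1, x, y, x y`
    let f : Fin 4 → K := fun i => ![1, ⟨x, hK _ hx⟩, ⟨y, hK _ hy⟩, ⟨x, hK _ hx⟩ * ⟨y, hK _ hy⟩] i
    let A : Subgroup K :=
      { carrier := Set.range f
        one_mem' := ⟨0, rfl⟩
        inv_mem' := by
          have hxi : x⁻¹ = x := inv_eq_of_mul_eq_one_right x2
          have hyi : y⁻¹ = y := inv_eq_of_mul_eq_one_right y2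
          rintro _ ⟨i, rfl⟩
          refine ⟨i, Subtype.ext ?_⟩
          fin_cases i <;> simp [f, hxi, hyi, hxy]
        mul_mem' := by
          have hyx : ∀ u, y * (x * u) = x * (y * u) := fun u => by rw [← mul_assoc, ← hxy, mul_assoc]
          have hxx : ∀ u, x * (x * u) = u := fun u => by rw [← mul_assoc, x2, one_mul]
          rintro _ _ ⟨i, rfl⟩ ⟨j, rfl⟩
          refine ⟨![![0, 1, 2, 3], ![1, 0, 3, 2], ![2, 3, 0, 1], ![3, 2, 1, 0]] i j, Subtype.ext ?_⟩
          fin_cases i <;> fin_cases j <;> simp [f, mul_assoc, x2, y2, hxx, hyx, hxy.symm] }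
    have hA : Nat.card A = 4 := by
      show Nat.card (Set.range f) = 4
      rw [Nat.card_range_of_injective, Nat.card_fin]
      intro i j h
      have h' : ((f i : K) : PSL2 F) = f j := congrArg Subtype.val h
      have hxy1 : x * y ≠ 1 := fun e => hne (by rw [eq_inv_of_mul_eq_one_left e, inv_eq_of_mul_eq_one_right y2])
      fin_cases i <;> fin_cases j <;>
        simp [f, x1, y1, hne, Ne.symm hne, x1.symm, y1.symm, hxy1, Ne.symm hxy1] at h' ⊢
    have := A.card_subgroup_dvd_card
    rw [hA, hK6] at this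
    norm_num at this
  obtain ⟨g, -, -, n, D, hn, -, hor, ⟨eD⟩, hfix⟩ := GWCons.outer_of_noKlein hodd hq hα hno
  have hle : D ≤ K := fun x hx => hK x (hfix x hx)
  have h6 := Nat.le_of_dvd Nat.card_pos (Subgroup.card_dvd_of_le hle)
  rw [hK6, Nat.card_congr eD.toEquiv, DihedralGroup.nat_card] at h6
  omega

section prime

variable (p : ℕ) [Fact p.Prime]

/-- The automorphisms of `PSL₂(p)`. -/
noncomputable def semiHom : GL (Fin 2) (ZMod p) →* MulAut (PSL2 (ZMod p)) :=
  MonoidHom.mk' (fun g => semi (g : GL (Fin (0 + 2)) (ZMod p)) (RingEquiv.refl (ZMod p)))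
    fun g h => (semi_refl_mul g h).symm

theorem semiHom_surjective : Function.Surjective (semiHom p) := fun α => by
  obtain ⟨g, σ, rfl⟩ := AutPSL.exists_semi_of_two α
  have hσ : σ = RingEquiv.refl (ZMod p) := RingEquiv.ext fun x =>
    RingHom.congr_fun (Subsingleton.elim (σ : ZMod p →+* ZMod p) (RingHom.id _)) x
  subst hσ
  exact ⟨g, rfl⟩

theorem semiHom_ker : (semiHom p).ker = center (GL (Fin 2) (ZMod p)) := by
  ext g
  rw [MonoidHom.mem_ker]
  exact ⟨fun h => (semi_eq_one_iff.1 h).2, fun h => semi_eq_one_iff.2 ⟨rfl, h⟩⟩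

/-- `Aut PSL₂(p) ≅ PGL₂(p)`. -/
noncomputable def mulAutEquiv :
    GL (Fin 2) (ZMod p) ⧸ center (GL (Fin 2) (ZMod p)) ≃* MulAut (PSL2 (ZMod p)) :=
  (QuotientGroup.quotientMulEquivOfEq (semiHom_ker p).symm).trans
    (QuotientGroup.quotientKerEquivOfSurjective (semiHom p) (semiHom_surjective p))

theorem card_mulAut_prime (hp : p ≠ 2) :
    Nat.card (MulAut (PSL2 (ZMod p))) = 2 * Nat.card (PSL2 (ZMod p)) := by
  have h := AutPSL.card_mulAut (F := ZMod p) (m := 0) p 1 le_rfl (by rw [Nat.card_zmod, pow_one])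
  rw [if_pos rfl, one_mul, one_mul] at h
  have h' := card_psl_mul (F := ZMod p)
  have h'' := card_pgl_eq (F := ZMod p)
  rw [Nat.card_zmod] at h' h''
  rw [Nat.gcd_eq_left (by have := Nat.odd_iff.1 ((Fact.out : p.Prime).odd_of_ne_two hp); omega)] at h'
  rw [h]
  exact h''.trans h'.symm

end prime

/-- `PSL₂(5) ≅ A₅`. -/
theorem psl_five [Fact (Nat.Prime 5)] : Nonempty (PSL2 (ZMod 5) ≃* alternatingGroup (Fin 5)) := by
  obtain ⟨H, ⟨e⟩⟩ := (exists_alternatingFive_sub_iff (F := ZMod 5)).2 (by rw [Nat.card_zmod]; norm_num)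
  have hH : H = ⊤ := by
    refine eq_top_of_card_eq _ ?_
    rw [Nat.card_congr e.toEquiv, card_alt_five]
    have h' := card_psl_mul (F := ZMod 5)
    rw [Nat.card_zmod, show Nat.gcd 2 (5 - 1) = 2 from rfl] at h'
    omega
  exact ⟨Subgroup.topEquiv.symm.trans ((MulEquiv.subgroupCongr hH.symm).trans e)⟩

/-- `Aut A₅ ≅ S₅`. -/
theorem mulAut_altFive : Nonempty (Equiv.Perm (Fin 5) ≃* MulAut (alternatingGroup (Fin 5))) := by
  refine ⟨MulEquiv.ofBijective MulAut.conjNormal ⟨S2119.conjNormal_injective (by norm_num), fun θ => ?_⟩⟩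
  obtain ⟨σ, hσ⟩ := AltAut.exists_conjNormal_of_threeCycle (by norm_num) θ
    (fun x hx => AltAut.threeCycle_of_ne_six (by norm_num) θ x hx)
  exact ⟨σ, hσ⟩

end Cfsg.Agent.SubThree
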