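/-
Insoluble groups with a maximal core-free subgroup `H` meeting a conjugate in index three: general facts on the
normal subgroups.
-/
import Cfsg.Agent.Lib.ThompsonWielandt.SubdegreeThree

set_option autoImplicit false
set_option linter.unusedSectionVars false
set_option linter.style.haveILetI false

namespace Cfsg.Agent.SubThree

open Subgroup MulAction
open scoped Pointwise commutatorElement

universe u

variable {G : Type u} [Group G]

theorem conj_mem_smul {X : Subgroup G} {g x : G} (hx : x ∈ X) : g * x * g⁻¹ ∈ MulAut.conj g • X :=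
  Cores.mem_conj_smul.2 (by simpa [mul_assoc] using hx)

theorem mem_normalizer_of_conj [Finite G] {X : Subgroup G} {g : G} (h : ∀ x ∈ X, g * x * g⁻¹ ∈ X) :
    g ∈ normalizer (X : Set G) :=
  Coprime.mem_normalizer_of_forall h

/-- `H` is maximal and core-free, meets `gHg⁻¹` in index three, and `G` is insoluble. -/
structure Data (H : Subgroup G) (g : G) : Prop where
  max : IsCoatom H
  core : ∀ X : Subgroup G, X.Normal → X ≤ H → X = ⊥
  ne : MulAut.conj g • H ≠ H
  idx : (MulAut.conj g • H).relIndex H = 3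
  insol : ¬ Group.IsSolvable G
  solv : Group.IsSolvable H

namespace Data

variable [Finite G] {H : Subgroup G} {g : G} (d : Data H g)

include d in
theorem card_inf : Nat.card ↥(H ⊓ MulAut.conj g • H) * 3 = Nat.card ↥H := by
  have h := ThompsonWielandt.relIndex_mul_card_inf (MulAut.conj g • H) H
  rw [d.idx, inf_comm] at h
  rw [← h, mul_comm]

include d in
theorem normalizer_eq {X : Subgroup G} (hX : X ≠ ⊥) (hXH : X ≤ H)
    (hn : H ≤ normalizer (X : Set G)) : normalizer (X : Set G) = H := by
  rcases eq_or_lt_of_le hn with h | h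
  · exact h.symm
  · have := d.max.2 _ h
    exact absurd (d.core X (normalizer_eq_top_iff.1 this) hXH) hX

include d in
theorem centralizer_eq {z : G} (hz : z ∈ H) (hz1 : z ≠ 1) (hc : ∀ h ∈ H, h * z = z * h) :
    centralizer ({z} : Set G) = H := by
  have hle : H ≤ centralizer ({z} : Set G) := fun h hh => mem_centralizer_singleton_iff.2 (hc h hh)
  rcases eq_or_lt_of_le hle with h | h
  · exact h.symm
  · exfalso
    have htop := d.max.2 _ h
    have hn : (zpowers z).Normal := ⟨fun x hx k => by
      obtain ⟨i, rfl⟩ := mem_zpowers_iff.1 hx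
      have hk : k * z = z * k := mem_centralizer_singleton_iff.1 (htop ▸ mem_top k)
      rw [(Commute.zpow_right hk i).eq, mul_inv_cancel_right]
      exact zpow_mem (mem_zpowers z) i⟩
    exact hz1 (zpowers_eq_bot.1 (d.core _ hn (zpowers_le.2 hz)))

include d in
theorem sup_eq_top {N : Subgroup G} (hN : N.Normal) (hne : N ≠ ⊥) : N ⊔ H = ⊤ := by
  rcases eq_or_lt_of_le (le_sup_right : H ≤ N ⊔ H) with h | h
  · exact absurd (d.core N hN (h ▸ le_sup_left)) hne
  · exact d.max.2 _ h

include d in
theorem decomp {N : Subgroup G} (hN : N.Normal) (hne : N ≠ ⊥) (x : G) :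
    ∃ n ∈ N, ∃ h ∈ H, n * h = x := by
  have : x ∈ N ⊔ H := d.sup_eq_top hN hne ▸ mem_top x
  obtain ⟨n, hn, h, hh, e⟩ := mem_sup_of_normal_left.1 this
  exact ⟨n, hn, h, hh, e⟩

include d in
theorem quot_solvable {N : Subgroup G} [N.Normal] (hne : N ≠ ⊥) : Group.IsSolvable (G ⧸ N) := by
  haveI := d.solv
  refine Group.isSolvable_of_surjective (f := (QuotientGroup.mk' N).comp H.subtype) fun q => ?_
  obtain ⟨x, rfl⟩ := QuotientGroup.mk'_surjective N q
  obtain ⟨n, hn, h, hh, rfl⟩ := d.decomp ‹_› hne x
  refine ⟨⟨h, hh⟩, ?_⟩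
  show QuotientGroup.mk' N h = QuotientGroup.mk' N (n * h)
  rw [map_mul, show QuotientGroup.mk' N n = 1 from (QuotientGroup.eq_one_iff n).2 hn, one_mul]

include d in
theorem not_solvable {N : Subgroup G} (hN : N.Normal) (hne : N ≠ ⊥) : ¬ Group.IsSolvable N := fun hs => by
  haveI := hN
  exact d.insol ((Group.isSolvable_iff_subgroup_quotient N).2 ⟨hs, d.quot_solvable hne⟩)

include d in
theorem eq_bot_of_comm {N : Subgroup G} (hN : N.Normal) (hc : ∀ a ∈ N, ∀ b ∈ N, a * b = b * a) :
    N = ⊥ := by
  by_contra hne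
  exact d.not_solvable hN hne (Group.isSolvable_of_comm fun a b => Subtype.ext (hc a a.2 b b.2))

include d in
/-- No nontrivial central elements, in particular `G` is not commutative. -/
theorem center_eq_bot : center G = ⊥ :=
  d.eq_bot_of_comm inferInstance fun _ ha b _ => (mem_center_iff.1 ha b).symm

end Data

/-- A minimal normal subgroup. -/
structure MinNormal (N : Subgroup G) : Prop where
  normal : N.Normal
  ne : N ≠ ⊥
  min : ∀ M : Subgroup G, M.Normal → M ≤ N → M = ⊥ ∨ M = N

theorem exists_minNormal [Finite G] (K : Subgroup G) (hK : K.Normal) (hne : K ≠ ⊥) :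
    ∃ N, MinNormal N ∧ N ≤ K := by
  induction hc : Nat.card K using Nat.strong_induction_on generalizing K with
  | _ c ih =>
    by_cases h : ∀ M : Subgroup G, M.Normal → M ≤ K → M = ⊥ ∨ M = K
    · exact ⟨K, ⟨hK, hne, h⟩, le_rfl⟩
    push Not at h
    obtain ⟨M, hMn, hMK, hM0, hMne⟩ := h
    have hlt : Nat.card M < c := by
      rw [← hc]
      exact Nat.lt_of_le_of_ne (card_le_of_le hMK) fun e => hMne (eq_of_le_of_card_ge hMK e.ge)
    obtain ⟨N, hN, hNM⟩ := ih _ hlt M hMn hM0 rfl
    exact ⟨N, hN, hNM.trans hMK⟩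

variable [Finite G] {H : Subgroup G} {g : G}

theorem Data.commutator_eq (d : Data H g) {N : Subgroup G} (hN : MinNormal N) : ⁅N, N⁆ = N := by
  haveI := hN.normal
  rcases hN.min ⁅N, N⁆ inferInstance (commutator_le_self N) with h | h
  · refine absurd (d.eq_bot_of_comm hN.normal fun a ha b hb => ?_) hN.ne
    have h1 : ⁅a, b⁆ ∈ (⊥ : Subgroup G) := h ▸ commutator_mem_commutator ha hb
    exact commutatorElement_eq_one_iff_mul_comm.1 (mem_bot.1 h1)
  · exact h

theorem Data.perfect (d : Data H g) {N : Subgroup G} (hN : MinNormal N) : Group.IsPerfect N := by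
  refine ⟨?_⟩
  apply Subgroup.map_injective N.subtype_injective
  rw [← MonoidHom.range_eq_map, Subgroup.range_subtype, map_subtype_commutator]
  exact d.commutator_eq hN

/-- An element outside a normal subgroup of index two together with it generates `G`. -/
theorem eq_top_of_index_two {N K : Subgroup G} (hi : N.index = 2) (hNK : N ≤ K) {z : G} (hz : z ∉ N)
    (hzK : z ∈ K) : K = ⊤ := by
  refine eq_top_iff.2 fun x _ => ?_
  by_cases hx : x ∈ N
  · exact hNK hx
  · have := (mul_mem_iff_of_index_two hi (a := z) (b := x)).2 (iff_of_false hz hx)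
    have h := K.mul_mem (K.inv_mem hzK) (hNK this)
    rwa [inv_mul_cancel_left] at h

/-- A minimal normal subgroup of index two whose centralized part at an outside involution is
solvable is simple. -/
theorem Data.isSimple (d : Data H g) {N : Subgroup G} (hN : MinNormal N) (hi : N.index = 2) {z : G}
    (hz : z ∉ N) (hz2 : z * z = 1) (hs : Group.IsSolvable ↥(N ⊓ centralizer ({z} : Set G))) :
    IsSimpleGroup N ∧ ¬ IsMulCommutative N := by
  haveI := hN.normal
  have hns := d.not_solvable hN.normal hN.ne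
  haveI : Nontrivial N := (Subgroup.nontrivial_iff_ne_bot N).2 hN.ne
  refine ⟨⟨fun M₀ hM₀ => ?_⟩,
    fun h => hns (Group.isSolvable_of_comm fun a b => h.is_comm.comm a b)⟩
  set M := M₀.map N.subtype with hM
  have hMN : M ≤ N := map_subtype_le _
  have hNM : N ≤ normalizer (M : Set G) := ThompsonWielandt.le_normalizer_map_subtype M₀
  set M' := MulAut.conj z • M with hM'
  have hzi : z⁻¹ = z := inv_eq_of_mul_eq_one_right hz2
  have hM'N : M' ≤ N := fun x hx => by
    have h := hN.normal.conj_mem _ (hMN (Cores.mem_conj_smul.1 hx)) z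
    simpa [mul_assoc] using h
  have hsw : MulAut.conj z • M' = M := by
    rw [hM', smul_smul, ← map_mul, hz2, map_one, one_smul]
  have hNM' : N ≤ normalizer (M' : Set G) := fun n hn => mem_normalizer_of_conj fun x hx => by
    refine Cores.mem_conj_smul.2 ?_
    have hn' : z⁻¹ * n * z ∈ N := by simpa using hN.normal.conj_mem n hn z⁻¹
    have := (mem_normalizer_iff.1 (hNM hn') _).1 (Cores.mem_conj_smul.1 hx)
    simpa [mul_assoc] using this
  have hnormal : ∀ K : Subgroup G, N ≤ normalizer (K : Set G) → MulAut.conj z • K = K → K.Normal :=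
    fun K h1 h2 => normalizer_eq_top_iff.1
      (eq_top_of_index_two hi h1 hz (Cores.conj_smul_eq_self_iff.1 h2))
  have hMM'n : (M ⊓ M').Normal := hnormal _
    ((le_inf hNM hNM').trans inf_normalizer_le_normalizer_inf)
    (by rw [Subgroup.smul_inf, ← hM', hsw, inf_comm])
  have hback : M = N → M₀ = ⊤ := fun e => by
    refine Subgroup.map_injective N.subtype_injective ?_
    rw [← MonoidHom.range_eq_map, Subgroup.range_subtype, ← hM, e]
  rcases hN.min _ hMM'n (inf_le_left.trans hMN) with hi0 | hi0
  swap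
  · exact Or.inr (hback (le_antisymm hMN (hi0.ge.trans inf_le_left)))
  have hcomm : ∀ a ∈ M, ∀ b ∈ M', a * b = b * a := fun a ha b hb => by
    have h : ⁅a, b⁆ ∈ M ⊓ M' := by
      refine ⟨?_, ?_⟩
      · have := M.mul_mem ha ((mem_normalizer_iff.1 (hNM (hM'N hb)) _).1 (M.inv_mem ha))
        simpa [commutatorElement_def, mul_assoc] using this
      · have := M'.mul_mem ((mem_normalizer_iff.1 (hNM' (hMN ha)) _).1 hb) (M'.inv_mem hb)
        simpa [commutatorElement_def, mul_assoc] using this
    rw [hi0, mem_bot] at h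
    exact commutatorElement_eq_one_iff_mul_comm.1 h
  left
  have hMs : Group.IsSolvable M := by
    let f : M →* ↥(N ⊓ centralizer ({z} : Set G)) :=
      { toFun := fun m => ⟨(m : G) * (z * m * z⁻¹), by
          refine ⟨N.mul_mem (hMN m.2) (hN.normal.conj_mem _ (hMN m.2) z),
            mem_centralizer_singleton_iff.2 ?_⟩
          have hc := hcomm _ m.2 _ (conj_mem_smul (g := z) m.2)
          calc (m : G) * (z * m * z⁻¹) * z = m * z * m := by group
            _ = (z * z) * (m * z * m) := by rw [hz2, one_mul]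
            _ = z * (z * m * z⁻¹ * ↑m) := by rw [hzi]; group
            _ = z * (m * (z * m * z⁻¹)) := by rw [hc]⟩
        map_one' := Subtype.ext (by simp)
        map_mul' := fun a b => Subtype.ext (by
          show (a : G) * b * (z * (a * b) * z⁻¹) = a * (z * a * z⁻¹) * (b * (z * b * z⁻¹))
          have hc := hcomm _ b.2 _ (conj_mem_smul (g := z) a.2)
          calc (a : G) * b * (z * (a * b) * z⁻¹)
              = a * (b * (z * a * z⁻¹)) * (z * b * z⁻¹) := by group
            _ = a * ((z * a * z⁻¹) * b) * (z * b * z⁻¹) := by rw [hc]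
            _ = _ := by group) }
    haveI := hs
    refine Group.isSolvable_of_isSolvable_injective (f := f) fun a b h => ?_
    have h' : (a : G) * (z * a * z⁻¹) = b * (z * b * z⁻¹) := congrArg Subtype.val h
    have h1 : (b : G)⁻¹ * a ∈ M ⊓ M' := by
      refine ⟨M.mul_mem (M.inv_mem b.2) a.2, ?_⟩
      have e : (b : G)⁻¹ * a = (z * b * z⁻¹) * (z * a * z⁻¹)⁻¹ := by
        rw [eq_mul_inv_iff_mul_eq, mul_assoc, h', inv_mul_cancel_left]
      rw [e]
      exact M'.mul_mem (conj_mem_smul b.2) (M'.inv_mem (conj_mem_smul a.2))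
    rw [hi0, mem_bot] at h1
    exact Subtype.ext (eq_of_inv_mul_eq_one h1).symm
  refine Subgroup.map_injective N.subtype_injective ?_
  rw [← hM, Subgroup.map_bot]
  by_contra hM0
  have hsn : (M ⊔ M').Normal := by
    refine hnormal _ (fun n hn => mem_normalizer_of_conj fun x hx => ?_)
      (by rw [Subgroup.smul_sup, ← hM', hsw, sup_comm])
    have hfix : MulAut.conj n • (M ⊔ M') = M ⊔ M' := by
      rw [Subgroup.smul_sup, Cores.conj_smul_eq_self_iff.2 (hNM hn),
        Cores.conj_smul_eq_self_iff.2 (hNM' hn)]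
    exact hfix ▸ conj_mem_smul hx
  rcases hN.min _ hsn (sup_le hMN hM'N) with h | h
  · exact hM0 (eq_bot_iff.2 (h ▸ le_sup_left))
  · apply hns
    haveI := hMs
    haveI : Group.IsSolvable M' :=
      Group.isSolvable_of_surjective (f := (Subgroup.equivSMul (MulAut.conj z) M).toMonoidHom)
        (Subgroup.equivSMul (MulAut.conj z) M).surjective
    let p : ↥M × ↥M' →* G := M.subtype.noncommCoprod M'.subtype fun a b => hcomm _ a.2 _ b.2
    have hr : p.range = N :=
      (MonoidHom.noncommCoprod_range M.subtype M'.subtype _).trans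
        (by rw [Subgroup.range_subtype, Subgroup.range_subtype, h])
    exact Group.isSolvable_of_surjective
      (f := ((MulEquiv.subgroupCongr hr).toMonoidHom).comp p.rangeRestrict)
      ((MulEquiv.subgroupCongr hr).surjective.comp p.rangeRestrict_surjective)

/-- The centralizer of an insoluble normal subgroup of index two is trivial. -/
theorem Data.centralizer_eq_bot (d : Data H g) {N : Subgroup G} (hN : N.Normal) (hi : N.index = 2) :
    centralizer (N : Set G) = ⊥ := by
  haveI := hN
  set C := centralizer (N : Set G) with hC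
  have hCN : C ⊓ N = ⊥ := d.eq_bot_of_comm inferInstance fun a ha b hb =>
    (mem_centralizer_iff.1 ha.1 b hb.2).symm
  refine d.eq_bot_of_comm inferInstance fun a ha b hb => ?_
  have key : ∀ x ∈ C, x ∈ N → x = 1 := fun x h1 h2 => mem_bot.1 (hCN ▸ ⟨h1, h2⟩ : x ∈ (⊥ : Subgroup G))
  by_cases han : a ∈ N
  · rw [key a ha han, one_mul, mul_one]
  by_cases hbn : b ∈ N
  · rw [key b hb hbn, one_mul, mul_one]
  have h := key _ (C.mul_mem ha hb) ((mul_mem_iff_of_index_two hi).2 (iff_of_false han hbn))
  rw [h, eq_comm, ← mul_eq_one_comm]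
  exact h

/-- An outside element does not act on the normal subgroup as an inner automorphism. -/
theorem Data.not_inner (d : Data H g) {N : Subgroup G} (hN : N.Normal) (hi : N.index = 2) {z : G}
    (hz : z ∉ N) {n : G} (hn : n ∈ N) (h : ∀ x ∈ N, z * x * z⁻¹ = n * x * n⁻¹) : False := by
  have hc : n⁻¹ * z ∈ centralizer (N : Set G) := mem_centralizer_iff.2 fun x hx => by
    have := h x hx
    calc x * (n⁻¹ * z) = n⁻¹ * (n * x * n⁻¹) * z := by group
      _ = n⁻¹ * (z * x * z⁻¹) * z := by rw [this]
      _ = n⁻¹ * z * x := by group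
  rw [d.centralizer_eq_bot hN hi, mem_bot, inv_mul_eq_one] at hc
  exact hz (hc ▸ hn)

/-- A group with a normal subgroup of index two and trivial centralizer is its automorphism group when
the latter is twice as big. -/
theorem equiv_mulAut {N : Subgroup G} [N.Normal] (hi : N.index = 2)
    (hC : centralizer (N : Set G) = ⊥) (hA : Nat.card (MulAut N) = 2 * Nat.card N) :
    Nonempty (G ≃* MulAut N) := by
  have hinj : Function.Injective (MulAut.conjNormal (H := N)) := (injective_iff_map_eq_one _).2 fun x hx => by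
    have hm : x ∈ centralizer (N : Set G) := mem_centralizer_iff.2 fun n hn => by
      have e := congrArg (fun φ : MulAut N => ((φ ⟨n, hn⟩ : N) : G)) hx
      simp only [MulAut.conjNormal_apply, MulAut.one_apply] at e
      exact (mul_inv_eq_iff_eq_mul.1 e).symm
    rwa [hC, mem_bot] at hm
  have hG : Nat.card G = Nat.card (MulAut N) := by rw [hA, ← N.card_mul_index, hi, mul_comm]
  haveI : Finite (MulAut N) := Nat.finite_of_card_ne_zero (hG ▸ Nat.card_pos.ne')
  exact ⟨MulEquiv.ofBijective _ ((Nat.bijective_iff_injective_and_card _).2 ⟨hinj, hG⟩)⟩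


theorem card_smul (k : G) (X : Subgroup G) : Nat.card ↥(MulAut.conj k • X) = Nat.card X :=
  ThompsonWielandt.Cubic.card_smul k X

/-- The same configuration seen from the conjugate. -/
theorem Data.flip (d : Data H g) : Data (MulAut.conj g • H) g⁻¹ := by
  have hback : MulAut.conj g⁻¹ • (MulAut.conj g • H) = H := by rw [map_inv, inv_smul_smul]
  have htop : ∀ k : G, MulAut.conj k • (⊤ : Subgroup G) = ⊤ := fun k =>
    eq_top_iff.2 fun x _ => Cores.mem_conj_smul.2 (mem_top _)
  refine ⟨⟨fun h => d.max.1 ?_, fun K hK => ?_⟩, fun X hX hle => ?_, ?_, ?_, d.insol, ?_⟩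
  · rw [← hback, h, htop]
  · have hlt : H < MulAut.conj g⁻¹ • K := by
      refine lt_of_le_of_ne (hback.ge.trans (Subgroup.pointwise_smul_le_pointwise_smul_iff.2 hK.le)) fun h => ?_
      refine hK.ne ?_
      rw [h, map_inv, smul_inv_smul]
    have h := congrArg (MulAut.conj g • ·) (d.max.2 _ hlt)
    simpa [map_inv, htop] using h
  · refine d.core X hX fun x hx => ?_
    have h := Cores.mem_conj_smul.1 (hle (hX.conj_mem x hx g))
    simpa [mul_assoc] using h
  · rw [hback]; exact d.ne.symm
  · rw [hback]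
    have h := ThompsonWielandt.relIndex_mul_card_inf H (MulAut.conj g • H)
    rw [card_smul] at h
    exact Nat.eq_of_mul_eq_mul_right Nat.card_pos (h.trans (by rw [mul_comm 3, d.card_inf]))
  · haveI := d.solv
    exact Group.isSolvable_of_surjective (f := (Subgroup.equivSMul (MulAut.conj g) H).toMonoidHom)
      (Subgroup.equivSMul (MulAut.conj g) H).surjective

/-- A normal 2-subgroup of `H` lies in `H ∩ gHg⁻¹`. -/
theorem Data.le_inf_of_two (d : Data H g) {n : ℕ} (hn : Nat.card ↥(H ⊓ MulAut.conj g • H) = 2 ^ n)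
    {X : Subgroup G} (hX : X ≤ H) (hX2 : IsPGroup 2 X) (hnX : H ≤ normalizer (X : Set G)) :
    X ≤ H ⊓ MulAut.conj g • H := by
  haveI := Fact.mk Nat.prime_two
  set T := H ⊓ MulAut.conj g • H
  have hT : IsPGroup 2 T := IsPGroup.of_card hn
  obtain ⟨m, hm⟩ := IsPGroup.iff_card.1
    (hT.to_sup_of_normal_right' hX2 ((inf_le_left : T ≤ H).trans hnX))
  have h1 : 2 ^ m ∣ 2 ^ n * 3 := by
    rw [← hm, ← hn, d.card_inf]; exact Subgroup.card_dvd_of_le (sup_le inf_le_left hX)
  have h2 := ((Nat.Coprime.pow_left m (by norm_num : Nat.Coprime 2 3)).dvd_of_dvd_mul_right h1)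
  exact le_sup_right.trans (eq_of_le_of_card_ge (le_sup_left : T ≤ T ⊔ X)
    (by rw [hm, hn]; exact Nat.le_of_dvd (by positivity) h2)).ge

/-- The whole group as a minimal normal subgroup. -/
theorem MinNormal.isSimple_top (d : Data H g) (hN : MinNormal (⊤ : Subgroup G)) :
    IsSimpleGroup G ∧ ¬ IsMulCommutative G := by
  haveI : Nontrivial G := (Subgroup.nontrivial_iff (G := G)).1 ⟨⟨⊤, ⊥, hN.ne⟩⟩
  exact ⟨⟨fun M hM => hN.min M hM le_top⟩,
    fun h => d.insol (Group.isSolvable_of_comm fun a b => h.is_comm.comm a b)⟩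

end Cfsg.Agent.SubThree
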