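/-
Stabilizers dihedral of order twelve.
-/
import Cfsg.Agent.Lib.SubThree.Gen
import Cfsg.Agent.Lib.SubThree.Shape
import Cfsg.Agent.Lib.SubThree.PSLFacts
import Cfsg.Agent.Lib.QGroup.Tools
import Cfsg.Agent.Lib.GWDihedral.Main

set_option autoImplicit false
set_option linter.unusedSectionVars false
set_option linter.style.haveILetI false
set_option maxHeartbeats 1000000

namespace Cfsg.Agent.SubThree

open Subgroup
open scoped Pointwise

universe u

section Twelve

open DihedralGroup

/-- The centre of the dihedral group of order twelve. -/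
def zd : DihedralGroup 6 := r 3

theorem zd_facts : zd * zd = 1 ∧ zd ≠ 1 ∧ ∀ x : DihedralGroup 6, x * zd = zd * x := by decide +kernel

theorem sq_of_four : ∀ x : DihedralGroup 6, x * x * (x * x) = 1 → x * x = 1 := by decide +kernel

theorem cent_twelve : ∀ a x : DihedralGroup 6, a * a = 1 → a ≠ 1 → a ≠ zd → x * a = a * x →
    x = 1 ∨ x = zd ∨ x = a ∨ x = zd * a := by decide +kernel

theorem gen_twelve : ∀ a x : DihedralGroup 6, a * a = 1 → a ≠ 1 → a ≠ zd →
    ∃ p q : DihedralGroup 6, x = p * a * p⁻¹ * (q * a * q⁻¹) ∨ x = zd * (p * a * p⁻¹ * (q * a * q⁻¹)) ∨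
      x = p * a * p⁻¹ ∨ x = zd * (p * a * p⁻¹) := by decide +kernel

theorem four_twelve : ∀ a b : DihedralGroup 6, a * a = 1 → b * b = 1 → a * b = b * a → a ≠ 1 → b ≠ 1 →
    a ≠ b → a = zd ∨ b = zd ∨ a * b = zd := by decide +kernel

end Twelve

variable {G : Type u} [Group G] [Finite G] {H : Subgroup G} {g : G}

/-- Stabilizers `D₁₂`: `S₅`, `PGL₂(7)`, `PSL₂(11)` or `PSL₂(13)`. -/
theorem Data.case_twelve (d : Data H g) (e : H ≃* DihedralGroup 6) :
    Nonempty (G ≃* Equiv.Perm (Fin 5)) ∨
      Nonempty (G ≃* GL (Fin 2) (ZMod 7) ⧸ Subgroup.center (GL (Fin 2) (ZMod 7))) ∨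
      Nonempty (G ≃* Matrix.ProjectiveSpecialLinearGroup (Fin 2) (ZMod 11)) ∨
      Nonempty (G ≃* Matrix.ProjectiveSpecialLinearGroup (Fin 2) (ZMod 13)) := by
  classical
  haveI := Fact.mk Nat.prime_two
  obtain ⟨hzd2, hzd1, hzdc⟩ := zd_facts
  set H' := MulAut.conj g • H with hH'
  set T := H ⊓ H' with hTdef
  have h12 : Nat.card H = 12 := by rw [Nat.card_congr e.toEquiv, DihedralGroup.nat_card]
  have hT4 : Nat.card T = 2 ^ 2 := by
    have := d.card_inf
    rw [h12] at this
    show Nat.card ↥(H ⊓ MulAut.conj g • H) = 2 ^ 2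
    omega
  -- the central involution and its conjugate
  set zH : H := e.symm zd with hzH
  set z : G := (zH : G) with hzdef
  have hzm : z ∈ H := zH.2
  have hz1 : z ≠ 1 := fun h => hzd1 (e.symm.injective ((Subtype.ext h).trans (map_one e.symm).symm))
  have hz2 : z * z = 1 := congrArg Subtype.val (show zH * zH = 1 by rw [hzH, ← map_mul, hzd2, map_one])
  have hzc : ∀ h ∈ H, h * z = z * h := fun h hh => congrArg Subtype.val (e.injective (by
    rw [map_mul, map_mul, hzH, MulEquiv.apply_symm_apply]; exact hzdc _) : (⟨h, hh⟩ : H) * zH = zH * ⟨h, hh⟩)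
  have hzo : orderOf z = 2 := Involution.orderOf_of_sq hz2 hz1
  have hCz : centralizer ({z} : Set G) = H := d.centralizer_eq hzm hz1 hzc
  have hzp : IsPGroup 2 (zpowers z) := IsPGroup.of_card (n := 1) (by rw [Nat.card_zpowers, hzo, pow_one])
  have hnz : H ≤ normalizer (zpowers z : Set G) := fun h hh => by
    refine centralizer_le_normalizer _ (mem_centralizer_iff.2 fun v hv => ?_)
    obtain ⟨i, rfl⟩ := mem_zpowers_iff.1 hv
    exact ((show Commute z h from (hzc h hh).symm).zpow_left i).eq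
  have hzT : z ∈ T := d.le_inf_of_two hT4 (zpowers_le.2 hzm) hzp hnz (mem_zpowers z)
  set z' : G := g * z * g⁻¹ with hz'def
  have hz'm : z' ∈ H' := conj_mem_smul hzm
  have hz'1 : z' ≠ 1 := fun h => hz1 (conj_eq_one_iff.1 h)
  have hz'2 : z' * z' = 1 := by
    rw [hz'def, show g * z * g⁻¹ * (g * z * g⁻¹) = g * (z * z) * g⁻¹ by group, hz2]; group
  have hz'c : ∀ h ∈ H', h * z' = z' * h := fun h hh => by
    have := hzc _ (Cores.mem_conj_smul.1 hh)
    calc h * z' = g * ((g⁻¹ * h * g) * z) * g⁻¹ := by rw [hz'def]; group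
      _ = g * (z * (g⁻¹ * h * g)) * g⁻¹ := by rw [this]
      _ = z' * h := by rw [hz'def]; group
  have hz'o : orderOf z' = 2 := Involution.orderOf_of_sq hz'2 hz'1
  have hz'T : z' ∈ T := by
    have hT4' : Nat.card ↥(H' ⊓ MulAut.conj g⁻¹ • H') = 2 ^ 2 := by
      rw [show MulAut.conj g⁻¹ • H' = H by rw [hH', map_inv, inv_smul_smul], inf_comm]; exact hT4
    have h := d.flip.le_inf_of_two hT4' (X := zpowers z') (zpowers_le.2 hz'm)
      (IsPGroup.of_card (n := 1) (by rw [Nat.card_zpowers, hz'o, pow_one])) (fun h hh => by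
        refine centralizer_le_normalizer _ (mem_centralizer_iff.2 fun v hv => ?_)
        obtain ⟨i, rfl⟩ := mem_zpowers_iff.1 hv
        exact ((show Commute z' h from (hz'c h hh).symm).zpow_left i).eq) (mem_zpowers z')
    rw [show MulAut.conj g⁻¹ • H' = H by rw [hH', map_inv, inv_smul_smul]] at h
    exact ⟨h.2, h.1⟩
  have hzz' : z' ≠ z := fun h => d.ne (by
    rw [← d.flip.centralizer_eq hz'm hz'1 hz'c, h, hCz])
  set a : DihedralGroup 6 := e ⟨z', hz'T.1⟩ with ha
  have hasq : a * a = 1 := by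
    rw [ha, ← map_mul, show (⟨z', hz'T.1⟩ : H) * ⟨z', hz'T.1⟩ = 1 from Subtype.ext hz'2, map_one]
  have ha1 : a ≠ 1 := fun h => hz'1 (congrArg Subtype.val (e.injective (h.trans (map_one e).symm)))
  have haz : a ≠ zd := fun h => hzz' (congrArg Subtype.val (e.injective
    (h.trans (by rw [hzH, MulEquiv.apply_symm_apply]) : e ⟨z', hz'T.1⟩ = e zH)))
  -- `T` is a self-centralizing four group
  have hTV : IsKleinFour T := by
    refine ⟨hT4, ?_⟩
    haveI : Nontrivial T := Finite.one_lt_card_iff_nontrivial.1 (by rw [hT4]; norm_num)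
    refine (Monoid.exponent_eq_prime_iff Nat.prime_two).2 fun x hx => orderOf_eq_prime ?_ hx
    have h4 : x ^ 4 = 1 := by rw [show 4 = Nat.card T by rw [hT4]; norm_num]; exact pow_card_eq_one'
    have h4' : (⟨x, x.2.1⟩ : H) ^ 4 = 1 :=
      Subtype.ext (by rw [SubgroupClass.coe_pow]; exact congrArg Subtype.val h4)
    have h2 := sq_of_four (e ⟨x, x.2.1⟩) (by
      rw [← map_mul, ← map_mul, ← pow_two, ← pow_two, ← pow_mul, h4', map_one])
    rw [← map_mul] at h2
    exact Subtype.ext ((pow_two (x : G)).trans (congrArg Subtype.val (e.injective (h2.trans (map_one e).symm))))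
  have hTel : ∀ x ∈ H, x * z' = z' * x → x ∈ T := fun x hx hxc => by
    have hc : e ⟨x, hx⟩ * a = a * e ⟨x, hx⟩ := by
      rw [ha, ← map_mul, ← map_mul]; exact congrArg e (Subtype.ext hxc)
    have hback : ∀ u : H, e ⟨x, hx⟩ = e u → x = u := fun u h => congrArg Subtype.val (e.injective h)
    rcases cent_twelve a _ hasq ha1 haz hc with h | h | h | h
    · rw [hback 1 (h.trans (map_one e).symm)]; exact T.one_mem
    · rw [hback zH (h.trans (by rw [hzH, MulEquiv.apply_symm_apply]))]; exact hzT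
    · rw [hback ⟨z', hz'T.1⟩ h]; exact hz'T
    · rw [hback (zH * ⟨z', hz'T.1⟩) (h.trans (by rw [map_mul, hzH, MulEquiv.apply_symm_apply, ha]))]
      exact T.mul_mem hzT hz'T
  have hCT : centralizer (T : Set G) ≤ T := fun x hx => by
    refine hTel x (hCz ▸ mem_centralizer_singleton_iff.2 ((mem_centralizer_iff.1 hx) z hzT).symm)
      ((mem_centralizer_iff.1 hx) z' hz'T).symm
  obtain ⟨S, hTS⟩ := (IsPGroup.of_card (n := 2) hT4 : IsPGroup 2 T).exists_le_sylow
  have hshape := sylow_shape S hTV hTS (inf_le_left.trans hCT)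
  -- conjugates of a noncentral involution generate
  have hgen : ∀ (K : Subgroup G), K.Normal → ∀ (v : G) (hv : v ∈ H), v ∈ K → v * v = 1 → v ≠ 1 → v ≠ z →
      ∀ x ∈ H, x ∈ K ∨ z * x ∈ K := by
    intro K hK v hv hvK hv2 hv1 hvz x hx
    obtain ⟨p, q, hpq⟩ := gen_twelve (e ⟨v, hv⟩) (e ⟨x, hx⟩)
      (by rw [← map_mul, show (⟨v, hv⟩ : H) * ⟨v, hv⟩ = 1 from Subtype.ext hv2, map_one])
      (fun h => hv1 (congrArg Subtype.val (e.injective (h.trans (map_one e).symm))))
      (fun h => hvz (congrArg Subtype.val (e.injective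
        (h.trans (by rw [hzH, MulEquiv.apply_symm_apply]) : e ⟨v, hv⟩ = e zH))))
    obtain ⟨p, rfl⟩ := e.surjective p
    obtain ⟨q, rfl⟩ := e.surjective q
    simp only [← map_inv, ← map_mul] at hpq
    have hP : (p : G) * v * (p : G)⁻¹ ∈ K := hK.conj_mem _ hvK _
    have hQ : (q : G) * v * (q : G)⁻¹ ∈ K := hK.conj_mem _ hvK _
    have hzmul : ∀ u : H, e ⟨x, hx⟩ = zd * e u → z * x = u := fun u h => by
      have h' : e (zH * ⟨x, hx⟩) = e u := by
        rw [map_mul, h, hzH, MulEquiv.apply_symm_apply, ← mul_assoc, hzd2, one_mul]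
      exact congrArg Subtype.val (e.injective h')
    rcases hpq with h | h | h | h
    · exact Or.inl ((show x = (p : G) * v * (p : G)⁻¹ * ((q : G) * v * (q : G)⁻¹) from congrArg Subtype.val (e.injective h)) ▸ K.mul_mem hP hQ)
    · exact Or.inr ((hzmul _ h) ▸ K.mul_mem hP hQ)
    · exact Or.inl ((show x = (p : G) * v * (p : G)⁻¹ from congrArg Subtype.val (e.injective h)) ▸ hP)
    · exact Or.inr ((hzmul _ h) ▸ hP)
  obtain ⟨N, hN, -⟩ := exists_minNormal (⊤ : Subgroup G) inferInstance (fun h => d.insol (by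
    haveI : Subsingleton G := subsingleton_of_forall_eq 1 fun x => mem_bot.1 (h ▸ mem_top x)
    exact Group.isSolvable_of_comm fun a b => Subsingleton.elim _ _))
  -- `z' = z` modulo `N`
  have hwN : z' * z ∈ N := by
    obtain ⟨n, hn, h, hh, hg⟩ := d.decomp hN.normal hN.ne g
    have e' : z' = n * z * n⁻¹ := by
      rw [hz'def, ← hg, show n * h * z * (n * h)⁻¹ = n * (h * z) * h⁻¹ * n⁻¹ by group, hzc h hh]
      group
    rw [e', show n * z * n⁻¹ * z = n * (z * n⁻¹ * z) by group]
    refine N.mul_mem hn ?_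
    have := hN.normal.conj_mem _ (N.inv_mem hn) z
    rwa [inv_eq_of_mul_eq_one_right hz2] at this
  by_cases hzN : z ∈ N
  · -- simple
    have hz'N : z' ∈ N := hN.normal.conj_mem z hzN g
    have hHN : H ≤ N := fun x hx => by
      rcases hgen N hN.normal z' hz'T.1 hz'N hz'2 hz'1 hzz' x hx with h | h
      · exact h
      · have := N.mul_mem hzN h
        rwa [← mul_assoc, hz2, one_mul] at this
    have htop : N = ⊤ := by rw [← d.sup_eq_top hN.normal hN.ne, sup_eq_left.2 hHN]
    subst htop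
    obtain ⟨hs, hna⟩ := hN.isSimple_top d
    haveI := hs
    rcases hshape with h4 | hbig
    · have hST : (T : Subgroup G) = S := eq_of_le_of_card_ge hTS (by rw [h4, hT4]; norm_num)
      obtain ⟨eD⟩ : Nonempty ((S : Subgroup G) ≃* DihedralGroup 2) := by
        haveI : IsKleinFour (S : Subgroup G) := hST ▸ hTV
        exact IsKleinFour.nonempty_mulEquiv
      rcases GWDihedral.dihedralGW.{u} G hs hna S 2 le_rfl ⟨eD⟩ with ⟨F, _, _, hodd, ⟨f⟩⟩ | h7
      · have hoddN : Odd (Nat.card F) := by rwa [Nat.card_eq_fintype_card]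
        have hcent : Nat.card (centralizer ({f z} : Set (PSL2.PSL2 F))) = 12 := by
          have hmap : (centralizer ({z} : Set G)).map f.toMonoidHom = centralizer ({f z} : Set (PSL2.PSL2 F)) := by
            ext y
            obtain ⟨y, rfl⟩ := f.surjective y
            simp [mem_centralizer_singleton_iff, ← map_mul]
          rw [← hmap, card_map_of_injective (f := f.toMonoidHom) f.injective, hCz, h12]
        rcases centralizer_twelve hoddN (by rw [MulEquiv.orderOf_eq, hzo]) hcent with h | h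
        · haveI : Fact (Nat.Prime 11) := ⟨by norm_num⟩
          obtain ⟨k⟩ := psl_zmod (F := F) (p := 11) (by rw [← Nat.card_eq_fintype_card]; exact h)
          exact Or.inr (Or.inr (Or.inl ⟨f.trans k⟩))
        · haveI : Fact (Nat.Prime 13) := ⟨by norm_num⟩
          obtain ⟨k⟩ := psl_zmod (F := F) (p := 13) (by rw [← Nat.card_eq_fintype_card]; exact h)
          exact Or.inr (Or.inr (Or.inr ⟨f.trans k⟩))
      · exfalso
        obtain ⟨f⟩ := h7
        have hc := Nat.card_congr f.toEquiv
        rw [nat_card_alternatingGroup, Nat.card_fin] at hc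
        have h8 : 2 ^ 3 ∣ Nat.card G := by rw [hc]; decide
        have := S.pow_dvd_card_of_pow_dvd_card h8
        rw [h4] at this
        norm_num at this
    · exfalso
      obtain ⟨u, hu⟩ : ∃ u : center (S : Subgroup G), orderOf u = 2 := by
        haveI : Nontrivial (S : Subgroup G) :=
          ⟨⟨⟨z, hTS hzT⟩, 1, fun h => hz1 (congrArg Subtype.val h)⟩⟩
        haveI := S.isPGroup'.center_nontrivial
        obtain ⟨k, hk0, hk⟩ := (S.isPGroup'.to_subgroup (center (S : Subgroup G))).nontrivial_iff_card.mp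
          inferInstance
        exact exists_prime_orderOf_dvd_card' 2 (by rw [hk]; exact dvd_pow_self 2 hk0.ne')
      set c : G := ((u : (S : Subgroup G)) : G)
      have hc : orderOf c = 2 := by rw [orderOf_coe, orderOf_coe, hu]
      obtain ⟨k, hk⟩ := isConj_iff.1 (isConj_involutions hna S hbig hzo hc)
      have hle : (S : Subgroup G) ≤ MulAut.conj k • H := fun x hx => by
        refine Cores.mem_conj_smul.2 (hCz ▸ mem_centralizer_singleton_iff.2 ?_)
        have h1 : x * c = c * x := congrArg Subtype.val (mem_center_iff.1 u.2 ⟨x, hx⟩)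
        rw [← hk] at h1
        calc k⁻¹ * x * k * z = k⁻¹ * (x * (k * z * k⁻¹)) * k := by group
          _ = k⁻¹ * (k * z * k⁻¹ * x) * k := by rw [h1]
          _ = z * (k⁻¹ * x * k) := by group
      have hd := Subgroup.card_dvd_of_le hle
      rw [card_smul, h12] at hd
      rcases hbig with ⟨k, ⟨f⟩⟩ | ⟨n, hn, hcard, -⟩
      · rw [Nat.card_congr f.toEquiv, DihedralGroup.nat_card] at hd
        have : 2 ^ 3 ∣ 12 := (Dvd.intro (2 ^ k) (by rw [← pow_add, ← pow_succ']; congr 1; omega)).trans hd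
        norm_num at this
      · rw [hcard] at hd
        have : 2 ^ 4 ∣ 12 := (pow_dvd_pow 2 (by omega : 4 ≤ n + 1)).trans hd
        norm_num at this
  -- index two
  have hz'z1 : z' * z ≠ 1 := fun h => hzz' ((eq_inv_of_mul_eq_one_left h).trans (inv_eq_of_mul_eq_one_right hz2))
  have hz'z2 : z' * z * (z' * z) = 1 := by
    rw [mul_assoc, ← mul_assoc z z' z, ← hzc z' hz'T.1, mul_assoc z' z z, hz2, mul_one, hz'2]
  have hz'zz : z' * z ≠ z := fun h => hz'1 (mul_eq_right.1 h)
  have hsplit : ∀ x : G, x ∈ N ∨ z * x ∈ N := fun x => by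
    obtain ⟨n, hn, h, hh, rfl⟩ := d.decomp hN.normal hN.ne x
    rcases hgen N hN.normal (z' * z) (H.mul_mem hz'T.1 hzm) hwN hz'z2 hz'z1 hz'zz h hh with h' | h'
    · exact Or.inl (N.mul_mem hn h')
    · refine Or.inr ?_
      rw [show z * (n * h) = z * n * z⁻¹ * (z * h) by group]
      exact N.mul_mem (hN.normal.conj_mem n hn z) h'
  have hi : N.index = 2 := Subgroup.index_eq_two_iff'.2 ⟨z, fun b => (xor_iff_not_iff _ _).2 fun h => by
    rcases hsplit b with h' | h'
    · exact hzN ((N.mul_mem_cancel_right h').1 (h.2 h'))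
    · exact hzN ((N.mul_mem_cancel_right (h.1 h')).1 h')⟩
  obtain ⟨hs, hna⟩ := d.isSimple hN hi hzN hz2 (by
    haveI := d.solv
    exact Group.isSolvable_of_isSolvable_injective (f := Subgroup.inclusion (inf_le_right.trans hCz.le))
      (Subgroup.inclusion_injective _))
  haveI := hs
  haveI := hN.normal
  set K : Subgroup N := H.subgroupOf N with hK
  have hK6 : Nat.card K = 6 := by
    set M := N.subgroupOf H
    have hMidx : M.index = 2 := Subgroup.index_eq_two_iff'.2 ⟨zH, fun b => (xor_iff_not_iff _ _).2 fun h => by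
      simp only [M, mem_subgroupOf, Subgroup.coe_mul] at h
      rcases hsplit b with h' | h'
      · exact hzN ((N.mul_mem_cancel_right h').1 (h.2 h'))
      · exact hzN ((N.mul_mem_cancel_right (h.1 h')).1 h')⟩
    have h := M.card_mul_index
    rw [hMidx, h12] at h
    have h1 : Nat.card M = Nat.card ↥(N ⊓ H) := by
      show Nat.card ↥(N.subgroupOf H) = _
      rw [← inf_subgroupOf_right N H, Cores.card_subgroupOf inf_le_right]
    have h2 : Nat.card K = Nat.card ↥(N ⊓ H) := by
      rw [hK, ← inf_subgroupOf_right H N, Cores.card_subgroupOf inf_le_right, inf_comm]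
    omega
  obtain ⟨P, hP⟩ := QGroup.exists_sylow_subgroupOf S N
  set M := N.subgroupOf (S : Subgroup G) with hMdef
  have hMidx : M.index = 2 := Subgroup.index_eq_two_iff'.2 ⟨⟨z, hTS hzT⟩, fun b => (xor_iff_not_iff _ _).2 fun h => by
    simp only [M, mem_subgroupOf, Subgroup.coe_mul] at h
    rcases hsplit b with h' | h'
    · exact hzN ((N.mul_mem_cancel_right h').1 (h.2 h'))
    · exact hzN ((N.mul_mem_cancel_right (h.1 h')).1 h')⟩
  obtain ⟨eP⟩ : Nonempty ((P : Subgroup N) ≃* M) := ⟨(MulEquiv.subgroupCongr hP).trans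
    { toFun := fun x => ⟨⟨((x : N) : G), x.2⟩, (x : N).2⟩
      invFun := fun x => ⟨⟨((x : (S : Subgroup G)) : G), x.2⟩, (x : (S : Subgroup G)).2⟩
      left_inv := fun x => rfl
      right_inv := fun x => rfl
      map_mul' := fun x y => rfl }⟩
  have hev : 2 ∣ Nat.card N := by
    rw [← Involution.orderOf_of_sq hz'z2 hz'z1]
    exact Subgroup.orderOf_dvd_natCard N hwN
  obtain ⟨j, hj, ⟨eM⟩⟩ : ∃ j, 2 ≤ j ∧ Nonempty (M ≃* DihedralGroup j) := by
    have hncyc : ¬ IsCyclic M := fun h => CentFour.not_cyclic_sylow hna hev P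
      (haveI := h; isCyclic_of_injective eP.toMonoidHom eP.injective)
    rcases hshape with h4 | hbig
    · refine absurd ?_ hncyc
      refine isCyclic_of_prime_card (p := 2) ?_
      have h := M.card_mul_index
      rw [hMidx, h4] at h
      omega
    · exact max_cases hbig M hMidx hncyc fun k => ⟨fun f => CentFour.not_quaternion hna P (eP.trans f)⟩
  set θ : MulAut N := MulAut.conjNormal z with hθdef
  have hθ : θ * θ = 1 := by rw [hθdef, ← map_mul, hz2, map_one]
  have hfix : ∀ x : N, θ x = x → (x : G) ∈ H := fun x hx => by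
    rw [← hCz, mem_centralizer_singleton_iff]
    exact (mul_inv_eq_iff_eq_mul.1 (congrArg Subtype.val hx)).symm
  rcases GWDihedral.dihedralGW.{u} N hs hna P j hj ⟨eP.trans eM⟩ with ⟨F, _, _, hodd, ⟨f⟩⟩ | h7
  swap
  · exfalso
    obtain ⟨f⟩ := h7
    obtain ⟨x, y, hx, hy, hxx, hyy, hxy, hx1, hy1, hne⟩ := GWCons.altSeven_klein (MulAut.congr f θ)
      (by rw [← map_mul, hθ, map_one])
    have hb : ∀ w, MulAut.congr f θ w = w → θ (f.symm w) = f.symm w := fun w h => f.injective (by
      rw [MulEquiv.apply_symm_apply]; exact h)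
    set p : N := f.symm x
    set q : N := f.symm y
    have hmul : ∀ u v : alternatingGroup (Fin 7), ((f.symm (u * v) : N) : G) = (f.symm u : N) * (f.symm v : N) :=
      fun u v => by rw [map_mul]; rfl
    have hp2 : (p : G) * p = 1 := by rw [← hmul, hxx, map_one]; rfl
    have hq2 : (q : G) * q = 1 := by rw [← hmul, hyy, map_one]; rfl
    have hpq : (p : G) * q = q * p := by rw [← hmul, ← hmul, hxy]
    have hpH := hfix p (hb x hx)
    have hqH := hfix q (hb y hy)
    have hne' : ∀ {w : N}, (w : G) = 1 → w = 1 := fun h => Subtype.ext h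
    have hp1 : (p : G) ≠ 1 := fun h => hx1 (f.symm.injective ((hne' h).trans (map_one _).symm))
    have hq1 : (q : G) ≠ 1 := fun h => hy1 (f.symm.injective ((hne' h).trans (map_one _).symm))
    have hpq' : (p : G) ≠ q := fun h => hne (f.symm.injective (Subtype.ext h))
    have hz_e : zd = e zH := by rw [hzH, MulEquiv.apply_symm_apply]
    have hel : ∀ {u v : G} (hu : u ∈ H) (hv : v ∈ H), e ⟨u, hu⟩ * e ⟨v, hv⟩ = e ⟨u * v, H.mul_mem hu hv⟩ :=
      fun hu hv => (map_mul e _ _).symm
    rcases four_twelve (e ⟨p, hpH⟩) (e ⟨q, hqH⟩)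
      (by rw [hel]; exact (congrArg e (Subtype.ext hp2)).trans (map_one e))
      (by rw [hel]; exact (congrArg e (Subtype.ext hq2)).trans (map_one e))
      (by rw [hel, hel]; exact congrArg e (Subtype.ext hpq))
      (fun h => hp1 (congrArg Subtype.val (e.injective (h.trans (map_one e).symm))))
      (fun h => hq1 (congrArg Subtype.val (e.injective (h.trans (map_one e).symm))))
      (fun h => hpq' (congrArg Subtype.val (e.injective h) :)) with h | h | h
    · exact hzN ((show (p : G) = z from congrArg Subtype.val (e.injective (h.trans hz_e))) ▸ p.2)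
    · exact hzN ((show (q : G) = z from congrArg Subtype.val (e.injective (h.trans hz_e))) ▸ q.2)
    · rw [hel] at h
      exact hzN ((show (p : G) * q = z from congrArg Subtype.val (e.injective (h.trans hz_e))) ▸ N.mul_mem p.2 q.2)
  have hoddN : Odd (Nat.card F) := by rwa [Nat.card_eq_fintype_card]
  have hq5 : 5 ≤ Nat.card F := by
    by_contra hlt
    have h2 := Nat.odd_iff.1 hoddN
    have := Finite.one_lt_card (α := F)
    have h3 : Nat.card F = 3 := by omega
    have hc := PSL2.card_psl_mul (F := F)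
    rw [h3, show Nat.gcd 2 (3 - 1) = 2 from rfl] at hc
    have h12' : Nat.card N = 12 := by rw [Nat.card_congr f.toEquiv]; show Nat.card (PSL2.PSL2 F) = 12; omega
    exact d.not_solvable hN.normal hN.ne (PSL2.isSolvable_of_card_two_three (by rw [h12']; decide))
  set K' : Subgroup (PSL2.PSL2 F) := K.map f.toMonoidHom with hK'
  have hK'6 : Nat.card K' = 6 := by rw [hK', card_map_of_injective (f := f.toMonoidHom) f.injective, hK6]
  have hq := q_of_fix_six hoddN hq5 (α := MulAut.congr f θ) (by rw [← map_mul, hθ, map_one]) hK'6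
    fun x hx => ⟨f.symm x, mem_subgroupOf.2 (hfix _ (f.injective (by
      rw [MulEquiv.apply_symm_apply]; exact hx))), f.apply_symm_apply x⟩
  rcases hq with hq | hq
  · haveI : Fact (Nat.Prime 5) := ⟨by norm_num⟩
    obtain ⟨k⟩ := psl_zmod (F := F) (p := 5) (by rw [← Nat.card_eq_fintype_card]; exact hq)
    obtain ⟨a5⟩ := psl_five
    obtain ⟨s5⟩ := mulAut_altFive
    let eN : N ≃* PSL2.PSL2 (ZMod 5) := f.trans k
    obtain ⟨eG⟩ := equiv_mulAut hi (d.centralizer_eq_bot hN.normal hi) (by
      rw [Nat.card_congr (MulAut.congr eN).toEquiv, Nat.card_congr eN.toEquiv,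
        card_mulAut_prime 5 (by norm_num)])
    exact Or.inl ⟨eG.trans ((MulAut.congr (eN.trans a5)).trans s5.symm)⟩
  · haveI : Fact (Nat.Prime 7) := ⟨by norm_num⟩
    obtain ⟨k⟩ := psl_zmod (F := F) (p := 7) (by rw [← Nat.card_eq_fintype_card]; exact hq)
    let eN : N ≃* PSL2.PSL2 (ZMod 7) := f.trans k
    obtain ⟨eG⟩ := equiv_mulAut hi (d.centralizer_eq_bot hN.normal hi) (by
      rw [Nat.card_congr (MulAut.congr eN).toEquiv, Nat.card_congr eN.toEquiv,
        card_mulAut_prime 7 (by norm_num)])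
    exact Or.inr (Or.inl ⟨eG.trans ((MulAut.congr eN).trans (mulAutEquiv 7).symm)⟩)

end Cfsg.Agent.SubThree
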