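/-
Two self-centralizing four groups, each normalized by a conjugate.
-/
import Cfsg.Agent.Lib.SubThree.SDCore
import Cfsg.Agent.Lib.SubThree.Gen

set_option autoImplicit false
set_option linter.unusedSectionVars false
set_option linter.style.haveILetI false

namespace Cfsg.Agent.SubThree

open Subgroup
open scoped Pointwise

universe u

theorem isKleinFour_smul {G : Type u} [Group G] {X : Subgroup G} (x : G) (hX : IsKleinFour X) :
    IsKleinFour ↥(MulAut.conj x • X) :=
  Transfer.isKleinFour_congr (Subgroup.equivSMul (MulAut.conj x) X) hX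

/-- Two distinct nontrivial elements generate a four group. -/
theorem klein_mem {G : Type u} [Group G] {V : Subgroup G} (hV : IsKleinFour V) {a b w : G}
    (ha : a ∈ V) (hb : b ∈ V) (hw : w ∈ V) (ha1 : a ≠ 1) (hb1 : b ≠ 1) (hab : a ≠ b) :
    w = 1 ∨ w = a ∨ w = b ∨ w = a * b := by
  classical
  haveI : Finite V := Nat.finite_of_card_ne_zero (by rw [hV.card_four]; norm_num)
  haveI := Fintype.ofFinite V
  have h := IsKleinFour.eq_finset_univ (x := (⟨a, ha⟩ : V)) (y := ⟨b, hb⟩)
    (fun h => ha1 (congrArg Subtype.val h)) (fun h => hb1 (congrArg Subtype.val h))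
    (fun h => hab (congrArg Subtype.val h))
  have hm := Finset.mem_univ (⟨w, hw⟩ : V)
  rw [← h] at hm
  simp only [Finset.mem_insert, Finset.mem_singleton, Subtype.ext_iff, Subgroup.coe_mul,
    Subgroup.coe_one] at hm
  tauto

variable {N : Type u} [Group N] [Finite N]

/-- A simple group with a self-centralizing four group `V` normalized by a conjugate `V' ≠ V`. -/
theorem four_core [IsSimpleGroup N] (hna : ¬ IsMulCommutative N) {V : Subgroup N} (hV : IsKleinFour V)
    (hC : centralizer (V : Set N) = V) {n : N}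
    (hn : MulAut.conj n • V ≤ normalizer (V : Set N)) (hne : MulAut.conj n • V ≠ V) :
    (∃ (F : Type) (_ : Field F) (_ : Fintype F), Odd (Fintype.card F) ∧ 16 ∣ Nat.card N ∧
        Nonempty (N ≃* Matrix.ProjectiveSpecialLinearGroup (Fin 2) F)) ∨
      Nonempty (N ≃* Matrix.ProjectiveSpecialLinearGroup (Fin 3) (ZMod 3)) ∨
      (∃ S : Sylow 2 N, Cfsg.IsQuasiDihedral (S : Subgroup N) ∧ Cfsg.Spor.IsoM11 N) := by
  haveI := Fact.mk Nat.prime_two
  set V' := MulAut.conj n • V with hV'
  have hVp : IsPGroup 2 V := IsPGroup.of_card (n := 2) (by rw [hV.card_four]; norm_num)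
  have hV'p : IsPGroup 2 V' :=
    IsPGroup.of_card (n := 2) (by rw [(isKleinFour_smul n hV).card_four]; norm_num)
  obtain ⟨S, hS⟩ := (IsPGroup.to_sup_of_normal_right' hV'p hVp hn).exists_le_sylow
  have hV'S : V' ≤ (S : Subgroup N) := le_sup_left.trans hS
  have hVS : V ≤ (S : Subgroup N) := le_sup_right.trans hS
  have hCS : centralizer (V : Set N) ⊓ (S : Subgroup N) ≤ V := by rw [hC]; exact inf_le_left
  rcases sylow_shape S hV hVS hCS with h4 | ⟨k, ⟨e⟩⟩ | hsd
  · refine absurd ?_ hne
    have hVS' : V = S := eq_of_le_of_card_ge hVS (by rw [h4, hV.card_four])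
    have hV'S' : V' = S :=
      eq_of_le_of_card_ge hV'S (by rw [h4, (isKleinFour_smul n hV).card_four])
    rw [hVS', hV'S']
  · have hcard : Nat.card (S : Subgroup N) = 2 * 2 ^ (k + 2) := by
      rw [Nat.card_congr e.toEquiv, DihedralGroup.nat_card]
    rcases Nat.eq_zero_or_pos k with rfl | hk
    · exfalso
      have hi : (V.subgroupOf (S : Subgroup N)).index = 2 := by
        have h := (V.subgroupOf (S : Subgroup N)).card_mul_index
        rw [Cores.card_subgroupOf hVS, hV.card_four, hcard] at h
        omega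
      have hnS : (S : Subgroup N) ≤ normalizer (V : Set N) :=
        (normal_subgroupOf_iff_le_normalizer hVS).1 (normal_of_index_eq_two hi)
      obtain ⟨u, hu, hmap⟩ := Transfer.klein_fusion S (pow_ne_zero _ two_ne_zero) e hV hVS (g := n) hV'S
      apply hne
      calc V' = MulAut.conj u • V := hmap
        _ = V := Cores.conj_smul_eq_self_iff.2 (hnS hu)
    · have h16 : 16 ∣ Nat.card N := by
        refine dvd_trans ?_ (Subgroup.card_subgroup_dvd_card (S : Subgroup N))
        rw [hcard, ← pow_succ']
        exact (show 16 = 2 ^ 4 by norm_num) ▸ pow_dvd_pow 2 (by omega : 4 ≤ k + 2 + 1)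
      rcases GWDihedral.dihedralGW.{u} N inferInstance hna S _
          (le_trans (by norm_num : 2 ≤ 2 ^ 2) (Nat.pow_le_pow_right (by norm_num) (by omega : 2 ≤ k + 2)))
          ⟨e⟩ with ⟨F, _, _, hodd, hf⟩ | h7
      · exact Or.inl ⟨F, inferInstance, inferInstance, hodd, h16, hf⟩
      · exfalso
        obtain ⟨f⟩ := h7
        have hc := Nat.card_congr f.toEquiv
        rw [nat_card_alternatingGroup, Nat.card_fin] at hc
        rw [hc] at h16
        revert h16
        decide
  · rcases sd_core hna hsd hV hC with h | h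
    · exact Or.inr (Or.inl h)
    · exact Or.inr (Or.inr ⟨S, hsd, h⟩)

end Cfsg.Agent.SubThree
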