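/-
Exclusion of `M₁₁`: `N(V) ≅ S₄` is not maximal, and an outside involution cannot act on it.
-/
import Cfsg.Agent.Lib.SubThree.Gen
import Cfsg.Agent.Lib.SubThree.Shape
import Cfsg.Agent.Lib.PSL2.MaximalTypes
import Cfsg.Agent.Lib.MathieuEleven.Aut
import Cfsg.Agent.S1190
import Cfsg.Agent.S1602

set_option autoImplicit false
set_option linter.unusedSectionVars false
set_option linter.style.haveILetI false

namespace Cfsg.Agent.SubThree

open Subgroup
open scoped Pointwise

universe u

variable {G : Type u} [Group G] [Finite G]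

/-- All four groups are conjugate when the Sylow 2-subgroups are semidihedral. -/
theorem klein_conj_of_sd {S : Sylow 2 G} (hS : Cfsg.IsQuasiDihedral (S : Subgroup G)) {V W : Subgroup G}
    (hV : IsKleinFour V) (hW : IsKleinFour W) : ∃ k : G, MulAut.conj k • W = V := by
  haveI := Fact.mk Nat.prime_two
  have hp : ∀ X : Subgroup G, IsKleinFour X → ∃ a : G, MulAut.conj a • X ≤ (S : Subgroup G) := fun X hX => by
    obtain ⟨P, hP⟩ := (IsPGroup.of_card (n := 2) (by rw [hX.card_four]; norm_num) :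
      IsPGroup 2 X).exists_le_sylow
    obtain ⟨a, ha⟩ := MulAction.exists_smul_eq G P S
    refine ⟨a, ?_⟩
    rw [← ha, Sylow.coe_subgroup_smul]
    exact Subgroup.pointwise_smul_le_pointwise_smul_iff.2 hP
  obtain ⟨a, ha⟩ := hp V hV
  obtain ⟨b, hb⟩ := hp W hW
  have hk : ∀ (X : Subgroup G) (x : G), IsKleinFour X → IsKleinFour ↥(MulAut.conj x • X) := fun X x hX =>
    Transfer.isKleinFour_congr (Subgroup.equivSMul (MulAut.conj x) X) hX
  obtain ⟨s, hs⟩ := (S1190.result hS).1 _ _
    (Transfer.isKleinFour_congr (subgroupOfEquivOfLe hb).symm (hk W b hW))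
    (Transfer.isKleinFour_congr (subgroupOfEquivOfLe ha).symm (hk V a hV))
  refine ⟨a⁻¹ * s * b, ?_⟩
  have h1 : MulAut.conj (s : G) • (MulAut.conj b • W) = MulAut.conj a • V := by
    have h := congrArg (Subgroup.map (S : Subgroup G).subtype) hs
    rw [Subgroup.map_map, subgroupOf_map_subtype, inf_eq_left.2 ha] at h
    rw [← h, show (S : Subgroup G).subtype.comp (MulAut.conj s).toMonoidHom =
      (MulAut.conj (s : G)).toMonoidHom.comp (S : Subgroup G).subtype from MonoidHom.ext fun x => rfl,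
      ← Subgroup.map_map, subgroupOf_map_subtype, inf_eq_left.2 hb]
    rfl
  rw [map_mul, map_mul, mul_smul, mul_smul, h1, map_inv, inv_smul_smul]

/-- In `M₁₁` the normalizer of a four group is not maximal. -/
theorem mEleven_not_coatom [IsSimpleGroup G] (hna : ¬ IsMulCommutative G) {S : Sylow 2 G}
    (hS : Cfsg.IsQuasiDihedral (S : Subgroup G)) (hM : Cfsg.Spor.IsoM11 G) {V : Subgroup G}
    (hV : IsKleinFour V) (h24 : Nat.card (normalizer (V : Set G)) = 24)
    (hmax : IsCoatom (normalizer (V : Set G))) : False := by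
  classical
  obtain ⟨f⟩ := hM
  have hd : Cfsg.Spor.squareDodecad ∈ Cfsg.dodecads := Golay.pts_dodecad0 ▸ Golay.dodecad0_mem
  have hp : (some 0 : Cfsg.GolayPt) ∈ Cfsg.Spor.squareDodecad := by
    rw [← Golay.pts_dodecad0]; decide +kernel
  obtain ⟨q, q', hq, hq', hqq'⟩ : ∃ q q' : Cfsg.GolayPt, q ∉ Cfsg.Spor.squareDodecad ∧
      q' ∉ Cfsg.Spor.squareDodecad ∧ q ≠ q' := by
    rw [← Golay.pts_dodecad0]; decide +kernel
  obtain ⟨e5⟩ := S1602.result _ hd _ q q' hp hq hq' hqq'
  let e : G ≃* _ := f.trans (Golay.infStabilizerEquiv₂ Cfsg.Spor.squareDodecad (some 0 : Cfsg.GolayPt))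
  let j5 : Equiv.Perm (Fin 5) →* G :=
    e.symm.toMonoidHom.comp ((Subgroup.inclusion inf_le_left).comp e5.symm.toMonoidHom)
  have hj5 : Function.Injective j5 :=
    fun a b h => e5.symm.injective (Subgroup.inclusion_injective inf_le_left (e.symm.injective h))
  set X := j5.range
  have hX : Nat.card X = 120 := by
    rw [← Nat.card_congr (MonoidHom.ofInjective hj5).toEquiv, Nat.card_perm, Nat.card_fin]; rfl
  have hXtop : X ≠ ⊤ := fun h => by
    let ej := MulEquiv.ofBijective j5 ⟨hj5, MonoidHom.range_eq_top.1 h⟩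
    let χ : G →* ℤˣ := Equiv.Perm.sign.comp ej.symm.toMonoidHom
    rcases (χ.normal_ker).eq_bot_or_eq_top with hk | hk
    · exact hna ⟨⟨fun a b => (MonoidHom.ker_eq_bot_iff χ).1 hk (by rw [map_mul, map_mul, mul_comm])⟩⟩
    · have h1 : χ (ej (Equiv.swap 0 1)) = 1 := MonoidHom.mem_ker.1 (hk ▸ mem_top _)
      simp [χ] at h1
  let j4 : Equiv.Perm (Fin 4) →* G := j5.comp (Equiv.Perm.viaEmbeddingHom Fin.castSuccEmb)
  have hj4 : Function.Injective j4 := hj5.comp (Equiv.Perm.viaEmbeddingHom_injective _)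
  set W := PSL2.fourV.map j4
  have hW : IsKleinFour W := PSL2.isKleinFour_map_fourV j4 hj4
  have hWn : j4.range ≤ normalizer (W : Set G) := by
    rintro _ ⟨x, rfl⟩
    refine mem_normalizer_of_conj fun y hy => ?_
    obtain ⟨v, hv, rfl⟩ := hy
    exact ⟨x * v * x⁻¹, PSL2.fourV_conj x hv, by rw [map_mul, map_mul, map_inv]⟩
  obtain ⟨k, hk⟩ := klein_conj_of_sd hS hV hW
  have hle : MulAut.conj k • j4.range ≤ normalizer (V : Set G) := by
    intro x hx
    refine mem_normalizer_of_conj fun v hv => ?_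
    rw [← hk] at hv ⊢
    refine Cores.mem_conj_smul.2 ?_
    have := (mem_normalizer_iff.1 (hWn (Cores.mem_conj_smul.1 hx)) _).1 (Cores.mem_conj_smul.1 hv)
    simpa [mul_assoc] using this
  have hcs : ∀ Y : Subgroup G, Nat.card ↥(MulAut.conj k • Y) = Nat.card Y := fun Y =>
    ThompsonWielandt.Cubic.card_smul k Y
  have heq : MulAut.conj k • j4.range = normalizer (V : Set G) := eq_of_le_of_card_ge hle (by
    rw [h24, hcs, ← Nat.card_congr (MonoidHom.ofInjective hj4).toEquiv, PSL2.card_perm_four])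
  have hlt : normalizer (V : Set G) < MulAut.conj k • X := by
    refine lt_of_le_of_ne (heq ▸ Subgroup.pointwise_smul_le_pointwise_smul_iff.2 ?_) fun h => ?_
    · rintro _ ⟨x, rfl⟩; exact ⟨_, rfl⟩
    · have := congrArg (fun Y : Subgroup G => Nat.card Y) h
      simp only [hcs, hX, h24] at this
      omega
  refine hXtop (eq_top_of_card_eq X ?_)
  rw [← hcs X, hmax.2 _ hlt, card_top]

/-- `M₁₁` has no outside involution. -/
theorem Data.mEleven_outer {H : Subgroup G} {g : G} (d : Data H g) {N : Subgroup G}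
    (hN : N.Normal) (hi : N.index = 2) (hM : Cfsg.Spor.IsoM11 N) {z : G} (hz : z ∉ N) : False := by
  haveI := hN
  obtain ⟨f⟩ := hM
  obtain ⟨h, hh⟩ := MathieuEleven.exists_conj_eq (MulAut.congr f (MulAut.conjNormal z))
  refine d.not_inner hN hi hz (n := (f.symm h : N)) (f.symm h).2 fun x hx => ?_
  have h1 := congrArg (fun θ : MulAut ↥Cfsg.Spor.M11 => ((f.symm (θ (f ⟨x, hx⟩)) : N) : G)) hh
  simp [MulAut.congr] at h1
  exact h1.symm

end Cfsg.Agent.SubThree
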