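/-
Stabilizers symmetric of degree four.
-/
import Cfsg.Agent.Lib.SubThree.Four
import Cfsg.Agent.Lib.SubThree.PSLFacts
import Cfsg.Agent.Lib.SubThree.MEleven

set_option autoImplicit false
set_option linter.unusedSectionVars false
set_option linter.style.haveILetI false
set_option maxHeartbeats 1000000

namespace Cfsg.Agent.SubThree

open Subgroup
open scoped Pointwise

universe u

theorem cent_fourV : ∀ x : Equiv.Perm (Fin 4),
    (∀ v : Equiv.Perm (Fin 4), v * v = 1 → Equiv.Perm.sign v = 1 → v * x = x * v) →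
      x * x = 1 ∧ Equiv.Perm.sign x = 1 := by decide +kernel

theorem odd_gives_swap : ∀ w : Equiv.Perm (Fin 4), Equiv.Perm.sign w ≠ 1 →
    ∃ (p q : Equiv.Perm (Fin 4)) (i j : Fin 4),
      i ≠ j ∧ w * (p * w * p⁻¹) * (q * w * q⁻¹) = Equiv.swap i j := by decide +kernel

/-- A normal subgroup of `S₄` with an odd element is everything. -/
theorem perm_four_normal_top {K : Subgroup (Equiv.Perm (Fin 4))} (hK : K.Normal)
    {w : Equiv.Perm (Fin 4)} (hw : w ∈ K) (hs : Equiv.Perm.sign w ≠ 1) : K = ⊤ := by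
  obtain ⟨p, q, i, j, hij, he⟩ := odd_gives_swap w hs
  have hswap : Equiv.swap i j ∈ K :=
    he ▸ K.mul_mem (K.mul_mem hw (hK.conj_mem _ hw p)) (hK.conj_mem _ hw q)
  refine eq_top_iff.2 (Equiv.Perm.closure_isSwap.ge.trans ((closure_le K).2 ?_))
  rintro _ ⟨k, l, hkl, rfl⟩
  obtain ⟨c, hc⟩ := isConj_iff.1 (Equiv.Perm.isConj_swap hij hkl)
  exact hc ▸ hK.conj_mem _ hswap c

variable {G : Type u} [Group G] [Finite G] {H : Subgroup G} {g : G}

/-- Stabilizers `S₄`: `PSL₂(p)` with `p ≡ ±1 (mod 16)` or `PSL₃(3)`. -/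
theorem Data.case_four (d : Data H g) (e : H ≃* Equiv.Perm (Fin 4)) :
    (∃ p : ℕ, p.Prime ∧ (p % 16 = 1 ∨ p % 16 = 15) ∧
        Nonempty (G ≃* Matrix.ProjectiveSpecialLinearGroup (Fin 2) (ZMod p))) ∨
      Nonempty (G ≃* Matrix.ProjectiveSpecialLinearGroup (Fin 3) (ZMod 3)) := by
  classical
  haveI := Fact.mk Nat.prime_two
  have h24 : Nat.card H = 24 := by
    rw [Nat.card_congr e.toEquiv, Nat.card_perm, Nat.card_fin]; rfl
  have hT : Nat.card ↥(H ⊓ MulAut.conj g • H) = 2 ^ 3 := by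
    have := d.card_inf
    rw [h24] at this
    omega
  set j : Equiv.Perm (Fin 4) →* G := H.subtype.comp e.symm.toMonoidHom with hj
  have hjinj : Function.Injective j := fun a b h => e.symm.injective (H.subtype_injective h)
  have hje : ∀ (x : G) (hx : x ∈ H), j (e ⟨x, hx⟩) = x := fun x hx =>
    congrArg Subtype.val (e.symm_apply_apply ⟨x, hx⟩)
  set V := PSL2.fourV.map j with hVdef
  have hV : IsKleinFour V := PSL2.isKleinFour_map_fourV j hjinj
  have hmem : ∀ (x : G) (hx : x ∈ H), x ∈ V ↔ e ⟨x, hx⟩ ∈ PSL2.fourV := fun x hx => by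
    refine ⟨?_, fun h => ⟨_, h, hje x hx⟩⟩
    rintro ⟨y, hy, hyx⟩
    rwa [← hjinj (hyx.trans (hje x hx).symm)]
  have hVH : V ≤ H := by rintro _ ⟨y, -, rfl⟩; exact (e.symm y).2
  have hVb : V ≠ ⊥ := fun h => by
    have := hV.card_four
    rw [h, Subgroup.card_bot] at this
    norm_num at this
  have hnH : H ≤ normalizer (V : Set G) := fun h hh => mem_normalizer_of_conj fun x hx => by
    obtain ⟨y, hy, rfl⟩ := hx
    exact ⟨_, PSL2.fourV_conj (e ⟨h, hh⟩) hy, by rw [map_mul, map_mul, map_inv, hje]⟩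
  have hNV : normalizer (V : Set G) = H := d.normalizer_eq hVb hVH hnH
  have hC : centralizer (V : Set G) = V := by
    refine le_antisymm (fun x hx => ?_) ?_
    · have hxH : x ∈ H := hNV ▸ centralizer_le_normalizer _ hx
      refine (hmem x hxH).2 (cent_fourV _ fun v hv2 hvs => ?_)
      apply hjinj
      rw [map_mul, map_mul, hje]
      exact mem_centralizer_iff.1 hx _ ⟨v, ⟨hv2, hvs⟩, rfl⟩
    · exact le_centralizer_iff_isMulCommutative.2
        ⟨⟨fun a b => mul_comm_of_exponent_two hV.exponent_two a b⟩⟩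
  have hgV : MulAut.conj g • V ≠ V := fun h => d.ne
    (Cores.conj_smul_eq_self_iff.2 (H.le_normalizer (hNV ▸ Cores.conj_smul_eq_self_iff.1 h)))
  have hV'T : MulAut.conj g • V ≤ H ⊓ MulAut.conj g • H := by
    have hback : MulAut.conj g⁻¹ • (MulAut.conj g • H) = H := by rw [map_inv, inv_smul_smul]
    have hn' : MulAut.conj g • H ≤ normalizer ((MulAut.conj g • V : Subgroup G) : Set G) := fun h hh =>
      mem_normalizer_of_conj fun x hx => by
        refine Cores.mem_conj_smul.2 ?_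
        have := (mem_normalizer_iff.1 (hnH (Cores.mem_conj_smul.1 hh)) _).1 (Cores.mem_conj_smul.1 hx)
        simpa [mul_assoc] using this
    have hT' : Nat.card ↥(MulAut.conj g • H ⊓ MulAut.conj g⁻¹ • (MulAut.conj g • H)) = 2 ^ 3 := by
      rw [hback, inf_comm]; exact hT
    have h := d.flip.le_inf_of_two hT' (Subgroup.pointwise_smul_le_pointwise_smul_iff.2 hVH)
      (IsPGroup.of_card (n := 2) (by rw [(isKleinFour_smul g hV).card_four]; norm_num)) hn'
    rwa [hback, inf_comm] at h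
  -- an element of the conjugate outside `V`
  obtain ⟨x, hx', hxV⟩ : ∃ x ∈ MulAut.conj g • V, x ∉ V := by
    by_contra hcon
    push Not at hcon
    exact hgV (eq_of_le_of_card_ge hcon (by rw [card_smul]))
  have hxH : x ∈ H := (hV'T hx').1
  obtain ⟨N, hN, -⟩ := exists_minNormal (⊤ : Subgroup G) inferInstance (fun h => d.insol (by
    haveI : Subsingleton G := subsingleton_of_forall_eq 1 fun y => mem_bot.1 (h ▸ mem_top y)
    exact Group.isSolvable_of_comm fun a b => Subsingleton.elim _ _))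
  haveI := hN.normal
  obtain ⟨n, hn, h, hh, rfl⟩ := d.decomp hN.normal hN.ne g
  set v := (n * h)⁻¹ * x * (n * h) with hv
  have hvV : v ∈ V := Cores.mem_conj_smul.1 hx'
  set v1 := h * v * h⁻¹ with hv1
  have hv1V : v1 ∈ V := (mem_normalizer_iff.1 (hnH hh) _).1 hvV
  have hxn : x = n * v1 * n⁻¹ := by rw [hv1, hv]; group
  have hwN : x * v1⁻¹ ∈ N := by
    rw [hxn, show n * v1 * n⁻¹ * v1⁻¹ = n * (v1 * n⁻¹ * v1⁻¹) by group]
    exact N.mul_mem hn (hN.normal.conj_mem _ (N.inv_mem hn) v1)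
  have hwH : x * v1⁻¹ ∈ H := H.mul_mem hxH (H.inv_mem (hVH hv1V))
  have hsign : Equiv.Perm.sign (e ⟨x * v1⁻¹, hwH⟩) ≠ 1 := by
    have hx2 : x * x = 1 := congrArg Subtype.val ((isKleinFour_smul (n * h) hV).mul_self ⟨x, hx'⟩)
    have he : (⟨x * v1⁻¹, hwH⟩ : H) = ⟨x, hxH⟩ * (⟨v1, hVH hv1V⟩ : H)⁻¹ := rfl
    rw [he, map_mul, map_inv, map_mul, map_inv, ((hmem v1 _).1 hv1V).2, inv_one, mul_one]
    exact fun hs => hxV ((hmem x hxH).2 ⟨by
      rw [← map_mul, show (⟨x, hxH⟩ : H) * ⟨x, hxH⟩ = 1 from Subtype.ext hx2, map_one], hs⟩)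
  have hK : ((N.subgroupOf H).map e.toMonoidHom) = ⊤ :=
    perm_four_normal_top ((Subgroup.Normal.subgroupOf hN.normal H).map _ e.surjective)
      ⟨⟨_, hwH⟩, mem_subgroupOf.2 hwN, rfl⟩ hsign
  have hHN : H ≤ N := fun y hy => by
    obtain ⟨z, hz, hze⟩ : e ⟨y, hy⟩ ∈ (N.subgroupOf H).map e.toMonoidHom := hK ▸ mem_top _
    obtain rfl : z = ⟨y, hy⟩ := e.injective hze
    exact hz
  have htop : N = ⊤ := by rw [← d.sup_eq_top hN.normal hN.ne, sup_eq_left.2 hHN]
  subst htop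
  obtain ⟨hs, hna⟩ := hN.isSimple_top d
  haveI := hs
  rcases four_core hna hV hC (n := n * h) (hV'T.trans (inf_le_left.trans hNV.ge)) hgV with
    ⟨F, _, _, hodd, h16, ⟨f⟩⟩ | h | ⟨S, hS, hM⟩
  · refine Or.inl ?_
    obtain ⟨p, hp, hmod, hcard⟩ := coatom_permFour hodd (M := H.map f.toMonoidHom)
      ((f.mapSubgroup.isCoatom_iff H).2 d.max)
      ((H.equivMapOfInjective f.toMonoidHom f.injective).symm.trans e)
      (by rwa [← Nat.card_congr f.toEquiv])
    haveI := Fact.mk hp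
    obtain ⟨k⟩ := psl_zmod (F := F) (p := p) hcard
    exact ⟨p, hp, hmod, ⟨f.trans k⟩⟩
  · exact Or.inr h
  · exact (mEleven_not_coatom hna hS hM hV (by rw [hNV, h24]) (by rw [hNV]; exact d.max)).elim

end Cfsg.Agent.SubThree
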