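/-
No simple group has a stabilizer `S₄ × 2`: transfer.
-/
import Cfsg.Agent.Lib.SubThree.Four
import Cfsg.Agent.Lib.TwoFusion.Transfer

set_option autoImplicit false
set_option linter.unusedSectionVars false
set_option linter.style.haveILetI false
set_option maxHeartbeats 1000000

namespace Cfsg.Agent.SubThree

open Subgroup
open scoped Pointwise

universe u

variable {G : Type u} [Group G] [Finite G] {H : Subgroup G} {g z c : G} {V : Subgroup G}

/-- The local configuration of a stabilizer `S₄ × 2`: `z` is the central involution, `V` the four group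
of the direct factor. -/
structure FourTwo (H : Subgroup G) (g z c : G) (V : Subgroup G) : Prop where
  conj_z : g * z * g⁻¹ = c * z
  cent_z : centralizer ({z} : Set G) = H
  card_H : Nat.card H = 48
  card_T : Nat.card ↥(H ⊓ MulAut.conj g • H) = 2 ^ 4
  z_sq : z * z = 1
  c_sq : c * c = 1
  c_ne : c ≠ 1
  klein : IsKleinFour V
  le_norm : H ≤ normalizer (V : Set G)
  le_T : V ≤ H ⊓ MulAut.conj g • H
  le_T' : MulAut.conj g • V ≤ H ⊓ MulAut.conj g • H
  c_mem : c ∈ V
  c_mem' : c ∈ MulAut.conj g • V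
  z_not : z ∉ V
  meet : ∀ w ∈ MulAut.conj g • V, (w ∈ V ∨ w * z ∈ V) → w = 1 ∨ w = c
  conj_c : ∀ v ∈ V, v ≠ 1 → ∃ k ∈ H, k * c * k⁻¹ = v
  split : ∀ s ∈ H ⊓ MulAut.conj g • H, ∃ v ∈ V, ∃ w ∈ MulAut.conj g • V, s = v * w ∨ s * z = v * w
  invol : ∀ s ∈ H ⊓ MulAut.conj g • H, s * s = 1 →
    s ∈ V ∨ s * z ∈ V ∨ s ∈ MulAut.conj g • V ∨ s * z ∈ MulAut.conj g • V
  cent_V : ∀ k ∈ H, (∀ v ∈ V, v * k = k * v) → k ∈ V ∨ k * z ∈ V
  sq : ∀ s ∈ H ⊓ MulAut.conj g • H, s * s = 1 ∨ s * s = c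
  root : ∃ y ∈ H ⊓ MulAut.conj g • H, y * y = c

namespace FourTwo

variable (S : FourTwo H g z c V)

include S

theorem z_comm {k : G} (hk : k ∈ H) : k * z = z * k :=
  mem_centralizer_singleton_iff.1 (S.cent_z.ge hk)

theorem z_mem : z ∈ H ⊓ MulAut.conj g • H := by
  have hzH : z ∈ H := S.cent_z.le (mem_centralizer_singleton_iff.2 rfl)
  refine ⟨hzH, ?_⟩
  have : z = c * (g * z * g⁻¹) := by rw [S.conj_z, ← mul_assoc, S.c_sq, one_mul]
  rw [this]
  exact mul_mem (Subgroup.pointwise_smul_le_pointwise_smul_iff.2 (S.le_T.trans inf_le_left) S.c_mem')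
    (conj_mem_smul hzH)

theorem c_inT : c ∈ H ⊓ MulAut.conj g • H := S.le_T S.c_mem

theorem v_sq {v : G} (hv : v ∈ V) : v * v = 1 :=
  congrArg Subtype.val (S.klein.mul_self ⟨v, hv⟩)

theorem w_sq {w : G} (hw : w ∈ MulAut.conj g • V) : w * w = 1 :=
  congrArg Subtype.val ((isKleinFour_smul g S.klein).mul_self ⟨w, hw⟩)

theorem v_comm {v v' : G} (hv : v ∈ V) (hv' : v' ∈ V) : v * v' = v' * v :=
  congrArg Subtype.val (mul_comm_of_exponent_two S.klein.exponent_two ⟨v, hv⟩ ⟨v', hv'⟩)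

theorem w_comm {v v' : G} (hv : v ∈ MulAut.conj g • V) (hv' : v' ∈ MulAut.conj g • V) :
    v * v' = v' * v :=
  congrArg Subtype.val
    (mul_comm_of_exponent_two (isKleinFour_smul g S.klein).exponent_two ⟨v, hv⟩ ⟨v', hv'⟩)

theorem inT_norm {s : G} (hs : s ∈ H ⊓ MulAut.conj g • H) :
    MulAut.conj s • V = V ∧ MulAut.conj s • (MulAut.conj g • V) = MulAut.conj g • V := by
  refine ⟨Cores.conj_smul_eq_self_iff.2 (S.le_norm hs.1), ?_⟩
  have hk := Cores.conj_smul_eq_self_iff.2 (S.le_norm (Cores.mem_conj_smul.1 hs.2))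
  calc MulAut.conj s • MulAut.conj g • V = MulAut.conj g • (MulAut.conj (g⁻¹ * s * g) • V) := by
        simp only [smul_smul, ← map_mul]
        congr 2; group
    _ = MulAut.conj g • V := by rw [hk]

theorem c_central {s : G} (hs : s ∈ H ⊓ MulAut.conj g • H) : s * c * s⁻¹ = c := by
  obtain ⟨h1, h2⟩ := S.inT_norm hs
  rcases S.meet _ (h2 ▸ conj_mem_smul S.c_mem') (Or.inl (h1 ▸ conj_mem_smul S.c_mem)) with h | h
  · exact absurd (conj_eq_one_iff.1 h) S.c_ne
  · exact h

/-- A noncentral element of `V` commutes with no noncentral element of the conjugate. -/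
theorem noncomm {v w : G} (hv : v ∈ V) (hw : w ∈ MulAut.conj g • V) (hvw : v * w = w * v) :
    (v = 1 ∨ v = c) ∨ (w = 1 ∨ w = c) := by
  by_cases hv' : v = 1 ∨ v = c
  · exact Or.inl hv'
  push Not at hv'
  refine Or.inr (S.meet w hw (S.cent_V w (S.le_T' hw).1 fun x hx => ?_))
  rcases klein_mem S.klein S.c_mem hv hx S.c_ne hv'.1 (Ne.symm hv'.2) with rfl | rfl | rfl | rfl
  · rw [one_mul, mul_one]
  · exact S.w_comm S.c_mem' hw
  · exact hvw
  · rw [mul_assoc, hvw, ← mul_assoc, S.w_comm S.c_mem' hw, mul_assoc]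

theorem exists_outer (X : Subgroup G) (hX : IsKleinFour X) : ∃ x ∈ X, x ≠ 1 ∧ x ≠ c := by
  haveI := Fact.mk Nat.prime_two
  obtain ⟨a, ha, b, hb, ha2, hb2, hab⟩ := klein_two hX
  have h1 : ∀ {x : G}, orderOf x = 2 → x ≠ 1 := fun h e => by rw [e, orderOf_one] at h; norm_num at h
  by_cases hac : a = c
  · exact ⟨b, hb, h1 hb2, fun h => hab (hac.trans h.symm)⟩
  · exact ⟨a, ha, h1 ha2, hac⟩

theorem z_ne : z ≠ 1 := fun h => S.z_not (h ▸ V.one_mem)

theorem z_ne_c : z ≠ c := fun h => S.z_not (h ▸ S.c_mem)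

/-- The involutory centre of `H ∩ H'`. -/
theorem central_invol {t : G} (ht : t ∈ H ⊓ MulAut.conj g • H) (ht2 : t * t = 1)
    (hc : ∀ s ∈ H ⊓ MulAut.conj g • H, t * s = s * t) : t = 1 ∨ t = c ∨ t = z ∨ t = c * z := by
  obtain ⟨v, hv, hv1, hvc⟩ := S.exists_outer V S.klein
  obtain ⟨w, hw, hw1, hwc⟩ := S.exists_outer _ (isKleinFour_smul g S.klein)
  have hz : ∀ s ∈ H ⊓ MulAut.conj g • H, t * z * s = s * (t * z) := fun s hs => by
    rw [mul_assoc, ← S.z_comm hs.1, ← mul_assoc, hc s hs, mul_assoc]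
  have hcomb : ∀ x, (x = 1 ∨ x = c) → t * z = x → t = 1 ∨ t = c ∨ t = z ∨ t = c * z := fun x hx he => by
    have e : t = x * z := by rw [← he, mul_assoc, S.z_sq, mul_one]
    rcases hx with rfl | rfl
    · exact Or.inr (Or.inr (Or.inl (e.trans (one_mul z))))
    · exact Or.inr (Or.inr (Or.inr e))
  rcases S.invol t ht ht2 with h | h | h | h
  · rcases S.noncomm h hw (hc w (S.le_T' hw)) with (h' | h') | (h' | h')
    exacts [Or.inl h', Or.inr (Or.inl h'), absurd h' hw1, absurd h' hwc]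
  · rcases S.noncomm h hw (hz w (S.le_T' hw)) with h' | (h' | h')
    exacts [hcomb _ h' rfl, absurd h' hw1, absurd h' hwc]
  · rcases S.noncomm hv h (hc v (S.le_T hv)).symm with (h' | h') | (h' | h')
    exacts [absurd h' hv1, absurd h' hvc, Or.inl h', Or.inr (Or.inl h')]
  · rcases S.noncomm hv h (hz v (S.le_T hv)).symm with (h' | h') | h'
    exacts [absurd h' hv1, absurd h' hvc, hcomb _ h' rfl]

theorem sup_mem {d : G} : d ∈ V ⊔ MulAut.conj g • V ↔
    ∃ v ∈ V, ∃ w ∈ MulAut.conj g • V, v * w = d := by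
  rw [← SetLike.mem_coe, coe_mul_of_right_le_normalizer_left V (MulAut.conj g • V)
    ((S.le_T'.trans inf_le_left).trans S.le_norm), Set.mem_mul]
  rfl

theorem z_not_sup : z ∉ V ⊔ MulAut.conj g • V := fun h => by
  obtain ⟨v, hv, w, hw, e⟩ := S.sup_mem.1 h
  have hwz : w * z ∈ V := by
    have hwv : w = v⁻¹ * z := by rw [← e, inv_mul_cancel_left]
    rw [hwv, mul_assoc, S.z_sq, mul_one]
    exact V.inv_mem hv
  apply S.z_not
  rcases S.meet w hw (Or.inr hwz) with rfl | rfl
  · rw [← e, mul_one]; exact hv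
  · rw [← e]; exact V.mul_mem hv S.c_mem

theorem c_not_conj_z (U : Sylow 2 G) (hU : 16 < Nat.card (U : Subgroup G))
    (hc : ∀ u ∈ (U : Subgroup G), u * c = c * u) : ¬ IsConj c z := fun h => by
  haveI := Fact.mk Nat.prime_two
  obtain ⟨k, hk⟩ := isConj_iff.1 h
  have hle : (U : Subgroup G) ≤ MulAut.conj k⁻¹ • H := fun x hx => by
    refine Cores.mem_conj_smul.2 (S.cent_z ▸ mem_centralizer_singleton_iff.2 ?_)
    rw [← hk, inv_inv]
    calc k * x * k⁻¹ * (k * c * k⁻¹) = k * (x * c) * k⁻¹ := by group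
      _ = k * (c * x) * k⁻¹ := by rw [hc x hx]
      _ = k * c * k⁻¹ * (k * x * k⁻¹) := by group
  have hd := Subgroup.card_dvd_of_le hle
  rw [card_smul, S.card_H] at hd
  obtain ⟨m, hm⟩ := IsPGroup.iff_card.1 U.isPGroup'
  rw [hm] at hd hU
  have h5 : 4 < m := (Nat.pow_lt_pow_iff_right (by norm_num : 1 < 2)).1 (by norm_num; exact hU)
  have := (pow_dvd_pow 2 (h5 : 5 ≤ m)).trans hd
  norm_num at this

theorem false_of_simple [IsSimpleGroup G] (hna : ¬ IsMulCommutative G) : False := by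
  classical
  haveI := Fact.mk Nat.prime_two
  set T := H ⊓ MulAut.conj g • H with hTdef
  set V' := MulAut.conj g • V with hV'def
  have hzT : z ∈ T := S.z_mem
  have hcT : c ∈ T := S.c_inT
  have hcz : c * z ≠ z := fun h => S.c_ne (mul_eq_right.1 h)
  have hzc : z * c = c * z := (S.z_comm hcT.1).symm
  have hzi : z⁻¹ = z := inv_eq_of_mul_eq_one_right S.z_sq
  have hci : c⁻¹ = c := inv_eq_of_mul_eq_one_right S.c_sq
  have hT2 : IsPGroup 2 T := IsPGroup.of_card S.card_T
  obtain ⟨U0, hTU0⟩ := hT2.exists_le_sylow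
  -- elements normalizing `T` fix `c`
  have hfix : ∀ w ∈ normalizer (T : Set G), w * c * w⁻¹ = c := fun w hw => by
    obtain ⟨y, hy, hyc⟩ := S.root
    have hm : w * y * w⁻¹ ∈ T := (mem_normalizer_iff.1 hw y).1 hy
    have e : w * y * w⁻¹ * (w * y * w⁻¹) = w * c * w⁻¹ := by rw [← hyc]; group
    rcases S.sq _ hm with h | h
    · exact absurd (conj_eq_one_iff.1 (e.symm.trans h)) S.c_ne
    · exact e.symm.trans h
  have hTC : ∀ s ∈ (U0 : Subgroup G), s * z = z * s → s ∈ T := by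
    have hle : T ≤ centralizer ({z} : Set G) ⊓ (U0 : Subgroup G) :=
      le_inf (inf_le_left.trans S.cent_z.ge) hTU0
    obtain ⟨m, hm⟩ := IsPGroup.iff_card.1
      ((U0.isPGroup'.to_le (inf_le_right : centralizer ({z} : Set G) ⊓ (U0 : Subgroup G) ≤ _)))
    have hd : 2 ^ m ∣ 16 * 3 := by
      rw [← hm, show 16 * 3 = 48 from rfl, ← S.card_H]
      exact Subgroup.card_dvd_of_le (inf_le_left.trans S.cent_z.le)
    have hd' := (Nat.Coprime.pow_left m (by norm_num : Nat.Coprime 2 3)).dvd_of_dvd_mul_right hd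
    have heq : T = centralizer ({z} : Set G) ⊓ (U0 : Subgroup G) :=
      eq_of_le_of_card_ge hle (by rw [hm, S.card_T]; exact Nat.le_of_dvd (by norm_num) hd')
    exact fun s hs hsz => heq ▸ ⟨mem_centralizer_singleton_iff.2 hsz, hs⟩
  -- `T` is not a Sylow subgroup
  have hne : (T : Subgroup G) ≠ U0 := fun hTU => by
    obtain ⟨n, hn, hnz⟩ := U0.conj_eq_normalizer_conj_of_mem_centralizer z g⁻¹
      (mem_centralizer_iff.2 fun s hs => S.z_comm (hTU.symm ▸ hs : s ∈ T).1)
      (by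
        rw [inv_inv, S.conj_z]
        refine mem_centralizer_iff.2 fun s hs => ?_
        have hsT : s ∈ T := hTU.symm ▸ hs
        rw [← mul_assoc, mul_inv_eq_iff_eq_mul.1 (S.c_central hsT), mul_assoc, S.z_comm hsT.1, ← mul_assoc])
    rw [inv_inv, S.conj_z] at hnz
    have hw : n⁻¹ ∈ normalizer (T : Set G) := by
      rw [hTU]; exact inv_mem hn
    have h1 : n⁻¹ * z * n⁻¹⁻¹ = c * z := by rw [inv_inv, ← hnz]
    have h2 : n⁻¹ * (c * z) * n⁻¹⁻¹ = z := by
      rw [show n⁻¹ * (c * z) * n⁻¹⁻¹ = n⁻¹ * c * n⁻¹⁻¹ * (n⁻¹ * z * n⁻¹⁻¹) by group, hfix _ hw, h1,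
        ← mul_assoc, S.c_sq, one_mul]
    have hk : ∀ k : ℕ, n⁻¹ ^ (2 * k) * z * (n⁻¹ ^ (2 * k))⁻¹ = z := fun k => by
      induction k with
      | zero => simp
      | succ k ih =>
        rw [show 2 * (k + 1) = 2 + 2 * k by ring, pow_add,
          show n⁻¹ ^ 2 * n⁻¹ ^ (2 * k) * z * (n⁻¹ ^ 2 * n⁻¹ ^ (2 * k))⁻¹ =
            n⁻¹ * (n⁻¹ * (n⁻¹ ^ (2 * k) * z * (n⁻¹ ^ (2 * k))⁻¹) * n⁻¹⁻¹) * n⁻¹⁻¹ by rw [pow_two]; group,
          ih, h1, h2]
    obtain ⟨a, m, hm, hord⟩ := Nat.exists_eq_two_pow_mul_odd (orderOf_pos n⁻¹).ne'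
    obtain ⟨k, rfl⟩ := hm
    set w := n⁻¹ ^ (2 * k + 1) with hwdef
    have hwz : w * z * w⁻¹ = c * z := by
      rw [hwdef, pow_succ', show n⁻¹ * n⁻¹ ^ (2 * k) * z * (n⁻¹ * n⁻¹ ^ (2 * k))⁻¹ =
        n⁻¹ * (n⁻¹ ^ (2 * k) * z * (n⁻¹ ^ (2 * k))⁻¹) * n⁻¹⁻¹ by group, hk k, h1]
    have hw2 : IsPGroup 2 (zpowers w) := fun x => ⟨a, by
      obtain ⟨i, hi⟩ := mem_zpowers_iff.1 x.2
      apply Subtype.ext
      rw [SubgroupClass.coe_pow, ← hi, ← zpow_natCast, ← zpow_mul, mul_comm, zpow_mul, zpow_natCast,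
        hwdef, ← pow_mul, mul_comm, ← hord, pow_orderOf_eq_one, one_zpow, Subgroup.coe_one]⟩
    have hsup : IsPGroup 2 ↥(zpowers w ⊔ T) :=
      hw2.to_sup_of_normal_right' hT2 (zpowers_le.2 (pow_mem hw _))
    have hmax := U0.3 hsup (hTU ▸ le_sup_right)
    have hwT : w ∈ T := by
      rw [hTU, ← hmax]; exact mem_sup_left (mem_zpowers w)
    exact hcz (by rw [← hwz, S.z_comm hwT.1, mul_inv_cancel_right])
  -- the normalizer of `T` in the Sylow subgroup
  set U := (U0 : Subgroup G) ⊓ normalizer (T : Set G) with hUdef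
  have hTU : T ≤ U := le_inf hTU0 le_normalizer
  obtain ⟨u0, hu0U, hu0T⟩ :=
    SetLike.exists_of_lt (GWKlein.lt_inf_normalizer U0.isPGroup' (lt_of_le_of_ne hTU0 hne))
  have hUz : ∀ u ∈ U, u * z * u⁻¹ = z ∨ u * z * u⁻¹ = c * z := fun u hu => by
    have ht : u * z * u⁻¹ ∈ T := (mem_normalizer_iff.1 hu.2 z).1 hzT
    have ht2 : u * z * u⁻¹ * (u * z * u⁻¹) = 1 := by
      rw [show u * z * u⁻¹ * (u * z * u⁻¹) = u * (z * z) * u⁻¹ by group, S.z_sq]
      group
    rcases S.central_invol ht ht2 (fun s hs => by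
        have hs' : u⁻¹ * s * u ∈ T := by
          simpa using (mem_normalizer_iff.1 (inv_mem hu.2) s).1 hs
        calc u * z * u⁻¹ * s = u * (z * (u⁻¹ * s * u)) * u⁻¹ := by group
          _ = u * (u⁻¹ * s * u * z) * u⁻¹ := by rw [S.z_comm hs'.1]
          _ = s * (u * z * u⁻¹) := by group) with h | h | h | h
    · exact absurd (conj_eq_one_iff.1 h) S.z_ne
    · exfalso
      have := (mul_left_cancel (mul_right_cancel (h.trans (hfix u hu.2).symm)) : z = c)
      exact S.z_ne_c this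
    · exact Or.inl h
    · exact Or.inr h
  have hmove : ∀ u ∈ U, u ∉ T → u * z * u⁻¹ = c * z := fun u hu huT =>
    (hUz u hu).resolve_left fun h => huT (hTC u hu.1 (mul_inv_eq_iff_eq_mul.1 h))
  have hcoset : ∀ u ∈ U, u ∉ T → u0⁻¹ * u ∈ T := fun u hu huT => by
    refine hTC _ (mul_mem (inv_mem hu0U.1) hu.1) (mul_inv_eq_iff_eq_mul.1 ?_)
    rw [show u0⁻¹ * u * z * (u0⁻¹ * u)⁻¹ = u0⁻¹ * (u * z * u⁻¹) * u0 by group, hmove u hu huT,
      ← hmove u0 hu0U hu0T]
    group
  have hswap : ∀ u ∈ U, u ∉ T → MulAut.conj u • V = V' ∧ MulAut.conj u • V' = V := fun u hu huT => by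
    have hz1 := hmove u hu huT
    have hk : g⁻¹ * u ∈ H := by
      rw [← S.cent_z, mem_centralizer_singleton_iff]
      calc g⁻¹ * u * z = g⁻¹ * (u * z * u⁻¹) * u := by group
        _ = g⁻¹ * (g * z * g⁻¹) * u := by rw [hz1, S.conj_z]
        _ = z * (g⁻¹ * u) := by group
    have h1 : MulAut.conj u • V = V' := by
      calc MulAut.conj u • V = MulAut.conj g • (MulAut.conj (g⁻¹ * u) • V) := by
            rw [smul_smul, ← map_mul, mul_inv_cancel_left]
        _ = V' := by rw [Cores.conj_smul_eq_self_iff.2 (S.le_norm hk)]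
    refine ⟨h1, ?_⟩
    have huu : u * u ∈ T := hTC _ (mul_mem hu.1 hu.1) (mul_inv_eq_iff_eq_mul.1 (by
      rw [show u * u * z * (u * u)⁻¹ = u * (u * z * u⁻¹) * u⁻¹ by group, hz1,
        show u * (c * z) * u⁻¹ = u * c * u⁻¹ * (u * z * u⁻¹) by group, hfix u hu.2, hz1,
        ← mul_assoc, S.c_sq, one_mul]))
    rw [← h1, smul_smul, ← map_mul]
    exact (S.inT_norm huu).1
  have hUc : ∀ u ∈ U, u * c = c * u := fun u hu => mul_inv_eq_iff_eq_mul.1 (hfix u hu.2)
  -- `U` is the Sylow subgroup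
  have hUU0 : U = (U0 : Subgroup G) := by
    by_contra hUne
    obtain ⟨w, ⟨hwU0, hwN⟩, hwU⟩ :=
      SetLike.exists_of_lt (GWKlein.lt_inf_normalizer U0.isPGroup' (lt_of_le_of_ne inf_le_left hUne))
    have hcj : ∀ x ∈ U, w * x * w⁻¹ ∈ U := fun x hx => (mem_normalizer_iff.1 hwN x).1 hx
    have hcj' : ∀ x ∈ U, w⁻¹ * x * w ∈ U := fun x hx => by
      have h := (mem_normalizer_iff.1 (inv_mem hwN) x).1 hx
      rwa [inv_inv] at h
    have hwc : w * c * w⁻¹ = c := by
      have hU' : ∀ x ∈ U, x * (w * c * w⁻¹) = w * c * w⁻¹ * x := fun x hx => by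
        calc x * (w * c * w⁻¹) = w * (w⁻¹ * x * w * c) * w⁻¹ := by group
          _ = w * (c * (w⁻¹ * x * w)) * w⁻¹ := by rw [hUc _ (hcj' x hx)]
          _ = w * c * w⁻¹ * x := by group
      have hm : w * c * w⁻¹ ∈ T := hTC _ (hcj c (hTU hcT)).1 (hU' z (hTU hzT)).symm
      have hm2 : w * c * w⁻¹ * (w * c * w⁻¹) = 1 := by
        rw [show w * c * w⁻¹ * (w * c * w⁻¹) = w * (c * c) * w⁻¹ by group, S.c_sq]
        group
      rcases S.central_invol hm hm2 (fun s hs => (hU' s (hTU hs)).symm) with h | h | h | h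
      · exact absurd (conj_eq_one_iff.1 h) S.c_ne
      · exact h
      · exfalso
        have := hU' u0 hu0U
        rw [h] at this
        exact hcz ((hmove u0 hu0U hu0T).symm.trans (mul_inv_eq_iff_eq_mul.2 this))
      · exfalso
        have := hU' u0 hu0U
        rw [h, ← mul_assoc, hUc u0 hu0U, mul_assoc, mul_assoc] at this
        exact hcz ((hmove u0 hu0U hu0T).symm.trans (mul_inv_eq_iff_eq_mul.2 (mul_left_cancel this)))
    set t := w * z * w⁻¹ with htdef
    have htU : t ∈ U := hcj z (hTU hzT)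
    have ht2 : t * t = 1 := by
      rw [htdef, show w * z * w⁻¹ * (w * z * w⁻¹) = w * (z * z) * w⁻¹ by group, S.z_sq]; group
    have hcl : ∀ u ∈ U, u * t * u⁻¹ = t ∨ u * t * u⁻¹ = c * t := fun u hu => by
      have e : u * t * u⁻¹ = w * (w⁻¹ * u * w * z * (w⁻¹ * u * w)⁻¹) * w⁻¹ := by rw [htdef]; group
      rcases hUz _ (hcj' u hu) with h | h
      · exact Or.inl (by rw [e, h])
      · refine Or.inr ?_
        rw [e, h, show w * (c * z) * w⁻¹ = w * c * w⁻¹ * (w * z * w⁻¹) by group, hwc]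
    by_cases htT : t ∈ T
    · by_cases htc : ∀ s ∈ T, t * s = s * t
      · have hzt : t = z ∨ t = c * z := by
          rcases S.central_invol htT ht2 htc with h | h | h | h
          · exact absurd (conj_eq_one_iff.1 h) S.z_ne
          · exact absurd (mul_left_cancel (mul_right_cancel (h.trans hwc.symm))) S.z_ne_c
          · exact Or.inl h
          · exact Or.inr h
        refine hwU ⟨hwU0, mem_normalizer_of_conj fun s hs => ?_⟩
        refine hTC _ (hcj s (hTU hs)).1 ?_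
        have hst : w * s * w⁻¹ * t = t * (w * s * w⁻¹) := by
          rw [htdef, show w * s * w⁻¹ * (w * z * w⁻¹) = w * (s * z) * w⁻¹ by group, S.z_comm hs.1]
          group
        rcases hzt with h | h <;> rw [h] at hst
        · exact hst
        · refine mul_left_cancel (a := c) ?_
          calc c * (w * s * w⁻¹ * z) = w * s * w⁻¹ * (c * z) := by
                rw [← mul_assoc, ← hUc _ (hcj s (hTU hs)), mul_assoc]
            _ = c * z * (w * s * w⁻¹) := hst
            _ = c * (z * (w * s * w⁻¹)) := mul_assoc _ _ _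
      · push Not at htc
        obtain ⟨s, hs, hst⟩ := htc
        obtain ⟨u, hu, huT, hut⟩ : ∃ u ∈ U, u ∉ T ∧ u * t * u⁻¹ = t := by
          rcases hcl u0 hu0U with h | h
          · exact ⟨u0, hu0U, hu0T, h⟩
          refine ⟨u0 * s, mul_mem hu0U (hTU hs), fun h' => hu0T ((T.mul_mem_cancel_right hs).1 h'), ?_⟩
          have hs' : s * t * s⁻¹ = c * t :=
            (hcl s (hTU hs)).resolve_left fun h' => hst (mul_inv_eq_iff_eq_mul.1 h').symm
          rw [show u0 * s * t * (u0 * s)⁻¹ = u0 * (s * t * s⁻¹) * u0⁻¹ by group, hs',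
            show u0 * (c * t) * u0⁻¹ = u0 * c * u0⁻¹ * (u0 * t * u0⁻¹) by group, hfix u0 hu0U.2, h,
            ← mul_assoc, S.c_sq, one_mul]
        obtain ⟨hsw, hsw'⟩ := hswap u hu huT
        have hnc : ∀ x, (x = 1 ∨ x = c) → t = x ∨ t * z = x → False := fun x hx he => hst (by
          have hxs : x * s = s * x := by
            rcases hx with rfl | rfl
            · rw [one_mul, mul_one]
            · exact (hUc s (hTU hs)).symm
          rcases he with rfl | he
          · exact hxs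
          · rw [show t = x * z by rw [← he, mul_assoc, S.z_sq, mul_one]]
            rw [mul_assoc, ← S.z_comm hs.1, ← mul_assoc, hxs, mul_assoc])
        have hutz : u * (t * z) * u⁻¹ = c * (t * z) := by
          rw [show u * (t * z) * u⁻¹ = u * t * u⁻¹ * (u * z * u⁻¹) by group, hut, hmove u hu huT,
            ← mul_assoc, hUc t htU, mul_assoc]
        rcases S.invol t htT ht2 with h | h | h | h
        · have h' := conj_mem_smul (g := u) h
          rw [hsw, hut] at h'
          exact hnc t (S.meet t h' (Or.inl h)) (Or.inl rfl)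
        · have h' := conj_mem_smul (g := u) h
          rw [hsw, hutz] at h'
          have := V'.mul_mem S.c_mem' h'
          rw [← mul_assoc c c, S.c_sq, one_mul] at this
          exact hnc _ (S.meet _ this (Or.inl h)) (Or.inr rfl)
        · have h' := conj_mem_smul (g := u) h
          rw [hsw', hut] at h'
          exact hnc t (S.meet t h (Or.inl h')) (Or.inl rfl)
        · have h' := conj_mem_smul (g := u) h
          rw [hsw', hutz] at h'
          have := V.mul_mem S.c_mem h'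
          rw [← mul_assoc c c, S.c_sq, one_mul] at this
          exact hnc _ (S.meet _ h (Or.inl this)) (Or.inr rfl)
    · obtain ⟨v, hv, hv1, hvc⟩ := S.exists_outer V S.klein
      have hv' : t * v * t⁻¹ ∈ V' := (hswap t htU htT).1 ▸ conj_mem_smul hv
      rcases hcl v (hTU (S.le_T hv)) with h | h
      · rw [show t * v * t⁻¹ = v by rw [← mul_inv_eq_iff_eq_mul.1 h, mul_inv_cancel_right]] at hv'
        rcases S.meet v hv' (Or.inl hv) with h' | h' <;> contradiction
      · have e : t * v * t⁻¹ = c * v := by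
          have h2 : v * t = c * t * v := mul_inv_eq_iff_eq_mul.1 h
          have h3 : c * (v * t) = t * v := by
            rw [h2, ← mul_assoc, ← mul_assoc, S.c_sq, one_mul]
          rw [← h3, ← mul_assoc, mul_inv_cancel_right]
        rw [e] at hv'
        rcases S.meet _ hv' (Or.inl (V.mul_mem S.c_mem hv)) with h' | h'
        · exact hvc ((mul_eq_one_iff_inv_eq.1 h').symm.trans hci)
        · exact hv1 (mul_eq_left.1 h')
  -- transfer
  set D := V ⊔ V' with hDdef
  have hDT : D ≤ T := sup_le S.le_T S.le_T'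
  have hzD : z ∉ D := S.z_not_sup
  have hTD : ∀ s ∈ T, s ∈ D ∨ s * z ∈ D := fun s hs => by
    obtain ⟨v, hv, w, hw, h⟩ := S.split s hs
    have hm : v * w ∈ D := mul_mem (mem_sup_left hv) (mem_sup_right hw)
    rcases h with h | h <;> rw [← h] at hm
    exacts [Or.inl hm, Or.inr hm]
  have hUD : ∀ u ∈ U, ∀ d ∈ D, u * d * u⁻¹ ∈ D := fun u hu d hd => by
    have hfixD : MulAut.conj u • D = D := by
      rw [hDdef, Subgroup.smul_sup]
      by_cases huT : u ∈ T
      · rw [(S.inT_norm huT).1, (S.inT_norm huT).2]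
      · rw [(hswap u hu huT).1, (hswap u hu huT).2, sup_comm]
    exact hfixD ▸ conj_mem_smul hd
  have hU16 : 16 < Nat.card (U0 : Subgroup G) := by
    refine lt_of_le_of_ne ?_ fun h => hne (eq_of_le_of_card_ge hTU0 (by rw [S.card_T, ← h]; norm_num))
    have := card_le_of_le hTU0
    rwa [S.card_T] at this
  have hcnz : ¬ IsConj c z := S.c_not_conj_z U0 hU16 fun u hu => hUc u (hUU0.ge hu)
  have hDc : ∀ d ∈ D, d * d = 1 → d ≠ 1 → IsConj c d := fun d hd hd2 hd1 => by
    have hV : ∀ v ∈ V, v ≠ 1 → IsConj c v := fun v hv h => by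
      obtain ⟨k, -, hk⟩ := S.conj_c v hv h
      exact isConj_iff.2 ⟨k, hk⟩
    obtain ⟨v, hv, w, hw, rfl⟩ := S.sup_mem.1 hd
    have hvw : v * w = w * v := by
      rw [eq_inv_of_mul_eq_one_left hd2, _root_.mul_inv_rev,
        inv_eq_of_mul_eq_one_right (S.v_sq hv), inv_eq_of_mul_eq_one_right (S.w_sq hw)]
    have hcV' : ∀ x, (x = 1 ∨ x = c) → x ∈ V' := by
      rintro x (rfl | rfl)
      exacts [one_mem _, S.c_mem']
    have hcV : ∀ x, (x = 1 ∨ x = c) → x ∈ V := by
      rintro x (rfl | rfl)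
      exacts [one_mem _, S.c_mem]
    rcases S.noncomm hv hw hvw with h | h
    · have hm := Cores.mem_conj_smul.1 (V'.mul_mem (hcV' v h) hw)
      refine (hV _ hm fun e => hd1 ?_).trans (isConj_iff.2 ⟨g, by group⟩)
      calc v * w = g * (g⁻¹ * (v * w) * g) * g⁻¹ := by group
        _ = 1 := by rw [e]; group
    · exact hV _ (V.mul_mem hv (hcV w h)) hd1
  -- commutators lie in `D`
  have hzu : ∀ u ∈ U, u * z * u⁻¹ * z⁻¹ ∈ D := fun u hu => by
    rcases hUz u hu with h | h <;> rw [h]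
    · rw [mul_inv_cancel]; exact one_mem _
    · rw [mul_inv_cancel_right]; exact mem_sup_left S.c_mem
  set DU : Subgroup U := D.subgroupOf U with hDU
  haveI : DU.Normal := ⟨fun d hd u => hUD _ u.2 _ hd⟩
  have hab : ∀ a ∈ U, ∀ b ∈ U, a * b * a⁻¹ * b⁻¹ ∈ D := by
    set Z : U ⧸ DU := QuotientGroup.mk (⟨z, hTU hzT⟩ : U)
    set X : U ⧸ DU := QuotientGroup.mk (⟨u0, hu0U⟩ : U)
    have hqT : ∀ x : U, (x : G) ∈ T → (QuotientGroup.mk x : U ⧸ DU) = 1 ∨ (QuotientGroup.mk x : U ⧸ DU) = Z := by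
      intro x hx
      rcases hTD _ hx with h | h
      · exact Or.inl ((QuotientGroup.eq_one_iff x).2 h)
      · refine Or.inr (QuotientGroup.eq.2 ?_)
        show (x : G)⁻¹ * z ∈ D
        have hxz : (x : G)⁻¹ * z = ((x : G) * z)⁻¹ := by
          rw [_root_.mul_inv_rev, hzi]
          exact S.z_comm (inv_mem hx.1)
        rw [hxz]; exact inv_mem h
    have hZq : ∀ q : U ⧸ DU, Commute q Z := fun q => by
      obtain ⟨x, rfl⟩ := QuotientGroup.mk'_surjective DU q
      refine (QuotientGroup.eq.2 ?_).symm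
      show ((z : G) * x)⁻¹ * (x * z) ∈ D
      have h := hUD _ (inv_mem x.2) _ (hzu _ x.2)
      have h' := hUD z (hTU hzT) _ h
      have e : ((z : G) * x)⁻¹ * (x * z) = (x : G)⁻¹ * (z⁻¹ * (↑x * z * (↑x)⁻¹ * z⁻¹) * z⁻¹⁻¹) * (x : G)⁻¹⁻¹ := by
        group
      rw [e]
      exact hUD _ (inv_mem x.2) _ (hUD _ (inv_mem (hTU hzT)) _ (hzu _ x.2))
    have hq : ∀ q : U ⧸ DU, ∃ r, (r = 1 ∨ r = Z) ∧ (q = r ∨ q = X * r) := fun q => by
      obtain ⟨x, rfl⟩ := QuotientGroup.mk'_surjective DU q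
      by_cases hx : (x : G) ∈ T
      · exact ⟨_, hqT x hx, Or.inl rfl⟩
      · refine ⟨_, hqT ((⟨u0, hu0U⟩ : U)⁻¹ * x) (hcoset _ x.2 hx), Or.inr ?_⟩
        rw [QuotientGroup.mk_mul, QuotientGroup.mk_inv]
        exact (mul_inv_cancel_left X _).symm
    have hXq : ∀ q : U ⧸ DU, Commute q X := fun q => by
      obtain ⟨r, hr, rfl | rfl⟩ := hq q
      · rcases hr with rfl | rfl
        exacts [Commute.one_left _, (hZq X).symm]
      · rcases hr with rfl | rfl
        exacts [(Commute.refl X).mul_left (Commute.one_left _), (Commute.refl X).mul_left (hZq X).symm]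
    intro a ha b hb
    have hcom : Commute (QuotientGroup.mk (⟨a, ha⟩ : U) : U ⧸ DU) (QuotientGroup.mk (⟨b, hb⟩ : U)) := by
      obtain ⟨r, hr, h | h⟩ := hq (QuotientGroup.mk (⟨b, hb⟩ : U)) <;> rw [h]
      · rcases hr with rfl | rfl
        exacts [Commute.one_right _, hZq _]
      · rcases hr with rfl | rfl
        exacts [(hXq _).mul_right (Commute.one_right _), (hXq _).mul_right (hZq _)]
    have := (QuotientGroup.eq_one_iff (N := DU)
      ((⟨a, ha⟩ : U) * ⟨b, hb⟩ * (⟨a, ha⟩ : U)⁻¹ * (⟨b, hb⟩ : U)⁻¹)).1 (by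
      rw [QuotientGroup.mk_mul, QuotientGroup.mk_mul, QuotientGroup.mk_mul, QuotientGroup.mk_inv,
        QuotientGroup.mk_inv, hcom.eq]
      group)
    exact this
  -- a subgroup separating `z` from `1` but not from its conjugates
  obtain ⟨K, hDK, hzK, hctrl⟩ : ∃ K : Subgroup G, D ≤ K ∧ z ∉ K ∧
      ∀ s ∈ U, IsConj z s → s * z⁻¹ ∈ K := by
    have hs2 : ∀ s, IsConj z s → s * s = 1 ∧ s ≠ 1 := fun s h => by
      obtain ⟨k, rfl⟩ := isConj_iff.1 h
      refine ⟨?_, fun e => S.z_ne (conj_eq_one_iff.1 e)⟩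
      rw [show k * z * k⁻¹ * (k * z * k⁻¹) = k * (z * z) * k⁻¹ by group, S.z_sq]; group
    have hin : ∀ s ∈ T, IsConj z s → s * z⁻¹ ∈ D := fun s hs h => by
      rw [hzi]
      refine (hTD s hs).resolve_left fun hsD => ?_
      exact hcnz ((hDc s hsD (hs2 s h).1 (hs2 s h).2).trans h.symm)
    by_cases hx : ∃ x ∈ U, x ∉ T ∧ x * x = 1
    swap
    · push Not at hx
      exact ⟨D, le_rfl, hzD, fun s hs h =>
        hin s (by_contra fun hsT => hx s hs hsT (hs2 s h).1) h⟩
    obtain ⟨x, hxU, hxT, hx2⟩ := hx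
    have hxi : x⁻¹ = x := inv_eq_of_mul_eq_one_right hx2
    have hxz : x * z * x = c * z := by
      have := hmove x hxU hxT
      rwa [hxi] at this
    have hsq : x * z * (x * z) = c := by
      rw [← mul_assoc, hxz, mul_assoc, S.z_sq, mul_one]
    refine ⟨D ⊔ zpowers (x * z), le_sup_left, fun h => ?_, fun s hs h => ?_⟩
    · have hnorm : zpowers (x * z) ≤ normalizer (D : Set G) := zpowers_le.2
        (mem_normalizer_of_conj fun d hd => hUD _ (mul_mem hxU (hTU hzT)) d hd)
      rw [← SetLike.mem_coe, coe_mul_of_right_le_normalizer_left _ _ hnorm, Set.mem_mul] at h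
      obtain ⟨d, hd, y, hy, e⟩ := h
      obtain ⟨i, rfl⟩ := mem_zpowers_iff.1 hy
      have hpow : ∀ j : ℤ, (x * z) ^ (2 * j) ∈ D := fun j => by
        rw [zpow_mul, show (x * z) ^ (2 : ℤ) = c by rw [zpow_two, hsq]]
        exact zpow_mem (mem_sup_left S.c_mem) j
      rcases Int.even_or_odd' i with ⟨j, rfl | rfl⟩
      · exact hzD (e ▸ mul_mem hd (hpow j))
      · rw [zpow_add, zpow_one, ← mul_assoc d, ← mul_assoc (d * _)] at e
        have hm : d * (x * z) ^ (2 * j) ∈ T := hDT (mul_mem hd (hpow j))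
        have h1 : d * (x * z) ^ (2 * j) * x = 1 := mul_eq_right.1 e
        exact hxT ((T.mul_mem_cancel_left hm).1 (h1 ▸ one_mem T))
    · by_cases hsT : s ∈ T
      · exact mem_sup_left (hin s hsT h)
      have hd : x⁻¹ * s ∈ T :=
        hTC _ (mul_mem (inv_mem hxU.1) hs.1) (mul_inv_eq_iff_eq_mul.1 (by
          rw [show x⁻¹ * s * z * (x⁻¹ * s)⁻¹ = x⁻¹ * (s * z * s⁻¹) * x by group, hmove s hs hsT,
            ← hmove x hxU hxT]
          group))
      rw [hzi]
      rcases hTD _ hd with h' | h'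
      · have e : s * z = x * (x⁻¹ * s) * x⁻¹ * (x * z) := by group
        rw [e]
        exact mul_mem (mem_sup_left (hUD x hxU _ h')) (mem_sup_right (mem_zpowers _))
      · exfalso
        set d := x * (x⁻¹ * s * z) * x⁻¹ with hddef
        have hdD : d ∈ D := hUD x hxU _ h'
        have es : s = d * (x * z) := by
          rw [hddef, show x * (x⁻¹ * s * z) * x⁻¹ * (x * z) = s * (z * z) by group, S.z_sq, mul_one]
        have h1 : d * (x * d * x) * c = 1 := by
          have := (hs2 s h).1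
          rw [es] at this
          rw [← this]
          have hdz : d * z = z * d := S.z_comm (hDT hdD).1
          calc d * (x * d * x) * c = d * x * d * x * (x * z * (x * z)) := by rw [hsq]; group
            _ = d * x * d * (x * x) * z * x * z := by group
            _ = d * x * (d * z) * x * z := by rw [hx2]; group
            _ = d * (x * z) * (d * (x * z)) := by rw [hdz]; group
        obtain ⟨v, hv, w, hw, hvw⟩ := S.sup_mem.1 hdD
        obtain ⟨hxV, hxV'⟩ := hswap x hxU hxT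
        set v1 := x * w * x with hv1def
        have hv1 : v1 ∈ V := by
          have := conj_mem_smul (g := x) hw
          rwa [hxi, hxV'] at this
        have hw' : w = x * v1 * x := by
          rw [hv1def, show x * (x * w * x) * x = x * x * w * (x * x) by group, hx2, one_mul, mul_one]
        set σ := MulAut.conj x with hσ
        have hσa : ∀ a, σ a = x * a * x := fun a => by rw [hσ, MulAut.conj_apply, hxi]
        have h2 : v * σ v1 * σ v * v1 = c := by
          have hd1 : d * (x * d * x) = c := by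
            rw [← hci]; exact eq_inv_of_mul_eq_one_left h1
          refine Eq.trans ?_ hd1
          rw [hσa, hσa, ← hw', ← hvw, hv1def]
          calc v * w * (x * v * x) * (x * w * x) = v * w * (x * v * (x * x) * w * x) := by group
            _ = _ := by rw [hx2]; group
        have hσ' : σ v1 * σ v = v * c * v1 := by
          rw [← h2]
          calc σ v1 * σ v = v * v * (σ v1 * σ v) * (v1 * v1) := by rw [S.v_sq hv, S.v_sq hv1, one_mul, mul_one]
            _ = _ := by group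
        set a := v * v1 with hadef
        have haV : a ∈ V := V.mul_mem hv hv1
        have hσa' : σ a = c * a := by
          rw [hadef, S.v_comm hv hv1, map_mul, hσ', S.v_comm hv S.c_mem, mul_assoc, S.v_comm hv1 hv]
        have hm : c * a ∈ V' := hσa' ▸ hxV ▸ conj_mem_smul haV
        have hac : a = 1 ∨ a = c := by
          rcases S.meet _ hm (Or.inl (V.mul_mem S.c_mem haV)) with h' | h'
          · exact Or.inr ((mul_eq_one_iff_inv_eq.1 h').symm.trans hci)
          · exact Or.inl (mul_eq_left.1 h')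
        rcases hac with h' | h' <;> rw [h'] at hσa'
        · rw [map_one, mul_one] at hσa'
          exact S.c_ne hσa'.symm
        · rw [hσa, ← hxi, hxi, S.c_sq] at hσa'
          have : x * c * x⁻¹ = 1 := by rw [hxi]; exact hσa'
          exact S.c_ne (conj_eq_one_iff.1 this)
  -- apply transfer
  have hU0 : ∀ {s : G}, s ∈ (U0 : Subgroup G) → s ∈ U := fun hs => hUU0.ge hs
  set KU : Subgroup (U0 : Subgroup G) := K.subgroupOf (U0 : Subgroup G) with hKU
  haveI : KU.Normal := ⟨fun k hk u => by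
    have hk' : (k : G) ∈ K := hk
    have := K.mul_mem (hDK (hab _ (hU0 u.2) _ (hU0 k.2))) hk'
    show (u : G) * k * (u : G)⁻¹ ∈ K
    rwa [inv_mul_cancel_right] at this⟩
  have hcomm : ∀ a b : (U0 : Subgroup G) ⧸ KU, a * b = b * a := fun a b => by
    obtain ⟨a, rfl⟩ := QuotientGroup.mk'_surjective KU a
    obtain ⟨b, rfl⟩ := QuotientGroup.mk'_surjective KU b
    refine QuotientGroup.eq.2 ?_
    show ((a : G) * b)⁻¹ * (b * a) ∈ K
    rw [show ((a : G) * b)⁻¹ * (b * a) = (b : G)⁻¹ * (a : G)⁻¹ * (b : G)⁻¹⁻¹ * (a : G)⁻¹⁻¹ by group]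
    exact hDK (hab _ (hU0 (inv_mem b.2)) _ (hU0 (inv_mem a.2)))
  letI : CommGroup ((U0 : Subgroup G) ⧸ KU) :=
    { (inferInstance : Group ((U0 : Subgroup G) ⧸ KU)) with mul_comm := hcomm }
  set φ := QuotientGroup.mk' KU with hφdef
  set zU : (U0 : Subgroup G) := ⟨z, hTU0 hzT⟩ with hzU
  have hφz : φ zU ≠ 1 := fun h => hzK ((QuotientGroup.eq_one_iff zU).1 h)
  have hφ2 : φ zU ^ 2 = 1 := by
    rw [← map_pow, show zU ^ 2 = 1 from Subtype.ext ((pow_two z).trans S.z_sq), map_one]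
  have htr := TwoFusion.transfer_eq_pow_of_controlled φ zU fun k a hm => by
    rcases Nat.even_or_odd' k with ⟨i, rfl | rfl⟩
    · rw [pow_mul (φ zU), hφ2, one_pow,
        show (⟨a * (zU : G) ^ (2 * i) * a⁻¹, hm⟩ : (U0 : Subgroup G)) = 1 from Subtype.ext (by
          show a * z ^ (2 * i) * a⁻¹ = 1
          rw [pow_mul, pow_two, S.z_sq, one_pow, mul_one, mul_inv_cancel]), map_one]
    · rw [pow_succ (φ zU), pow_mul (φ zU), hφ2, one_pow, one_mul]
      have hz' : (zU : G) ^ (2 * i + 1) = z := by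
        show z ^ (2 * i + 1) = z
        rw [pow_succ, pow_mul, pow_two, S.z_sq, one_pow, one_mul]
      refine (QuotientGroup.eq.2 ?_).symm
      show z⁻¹ * (a * (zU : G) ^ (2 * i + 1) * a⁻¹) ∈ K
      have hs : a * z * a⁻¹ ∈ (U0 : Subgroup G) := by rwa [hz'] at hm
      rw [hz']
      have hk := hctrl _ (hU0 hs) (isConj_iff.2 ⟨a, rfl⟩)
      have := K.mul_mem (hDK (hab _ (hU0 (hTU0 hzT)) _ (hU0 hs))) hk
      have e : z⁻¹ * (a * z * a⁻¹) =
          z * (a * z * a⁻¹) * z⁻¹ * (a * z * a⁻¹)⁻¹ * (a * z * a⁻¹ * z⁻¹) := by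
        rw [hzi]
        calc z * (a * z * a⁻¹) = z * (a * z * a⁻¹) * (z * z) := by rw [S.z_sq, mul_one]
          _ = _ := by group
      rw [e]
      exact this
  obtain ⟨m, hm⟩ : Odd (U0 : Subgroup G).index := Nat.odd_iff.2 (Nat.two_dvd_ne_zero.1 U0.not_dvd_index)
  rw [hm, pow_succ, pow_mul, hφ2, one_pow, one_mul] at htr
  set f := MonoidHom.transfer φ with hf
  rcases (f.normal_ker).eq_bot_or_eq_top with hk | hk
  · exact hna ⟨⟨fun a b => (MonoidHom.ker_eq_bot_iff f).1 hk (by rw [map_mul, map_mul, mul_comm])⟩⟩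
  · exact hφz (htr ▸ MonoidHom.mem_ker.1 (hk ▸ mem_top z))

end FourTwo

end Cfsg.Agent.SubThree
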