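/-
Stabilizers `S₄ × 2`: a subgroup of index two isomorphic to `PSL₃(3)`.
-/
import Cfsg.Agent.Lib.SubThree.FourTwoSimple
import Cfsg.Agent.Lib.SubThree.CaseFour

set_option autoImplicit false
set_option linter.unusedSectionVars false
set_option linter.style.haveILetI false
set_option maxHeartbeats 1000000

namespace Cfsg.Agent.SubThree

open Subgroup
open scoped Pointwise

universe u

theorem cent_four_cycle : ∀ a : Equiv.Perm (Fin 4), a * a * (a * a) = 1 → a * a ≠ 1 →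
    ∀ b : Equiv.Perm (Fin 4), b * b = 1 → a * b = b * a → b = 1 ∨ b = a * a := by decide +kernel

theorem even_two_element : ∀ a : Equiv.Perm (Fin 4), a * a * (a * a) = 1 → Equiv.Perm.sign a = 1 →
    a * a = 1 := by decide +kernel

theorem few_commuting : ∀ a : Equiv.Perm (Fin 4), a * a = 1 → a ≠ 1 →
    Fintype.card {b : Equiv.Perm (Fin 4) // b * b = 1 ∧ a * b = b * a} < 8 := by decide +kernel

theorem fourV_transitive : ∀ a : Equiv.Perm (Fin 4), a * a = 1 → Equiv.Perm.sign a = 1 → a ≠ 1 →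
    ∀ b : Equiv.Perm (Fin 4), b * b = 1 → Equiv.Perm.sign b = 1 → b ≠ 1 → ∃ p, p * a * p⁻¹ = b := by
  decide +kernel

theorem odd_involutions : ∀ c x s : Equiv.Perm (Fin 4),
    (c * c = 1 ∧ Equiv.Perm.sign c = 1 ∧ c ≠ 1 ∧ x * x = 1 ∧ Equiv.Perm.sign x ≠ 1 ∧ x * c = c * x ∧
      s * s = 1 ∧ Equiv.Perm.sign s ≠ 1 ∧ s * c = c * s) → s = x ∨ s = c * x := by decide +kernel

theorem two_elements : ∀ t : Multiplicative (ZMod 2), t * t = 1 ∧ (t = 1 ∨ t = Multiplicative.ofAdd 1) := by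
  decide

theorem ofAdd_one_ne : (Multiplicative.ofAdd 1 : Multiplicative (ZMod 2)) ≠ 1 := by decide

variable {G : Type u} [Group G] [Finite G] {H : Subgroup G} {g : G}

theorem Data.not_mem (d : Data H g) : g ∉ H := fun hg =>
  d.ne (Cores.conj_smul_eq_self_iff.2 (H.le_normalizer hg))

/-- A normal 2-subgroup of `H` and its conjugate lie in `H ∩ gHg⁻¹`. -/
theorem Data.both_le_inf (d : Data H g) {n : ℕ} (hn : Nat.card ↥(H ⊓ MulAut.conj g • H) = 2 ^ n)
    {X : Subgroup G} (hX : X ≤ H) (hX2 : IsPGroup 2 X) (hnX : H ≤ normalizer (X : Set G)) :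
    X ≤ H ⊓ MulAut.conj g • H ∧ MulAut.conj g • X ≤ H ⊓ MulAut.conj g • H := by
  refine ⟨d.le_inf_of_two hn hX hX2 hnX, ?_⟩
  have hback : MulAut.conj g⁻¹ • (MulAut.conj g • H) = H := by rw [map_inv, inv_smul_smul]
  have hn' : MulAut.conj g • H ≤ normalizer ((MulAut.conj g • X : Subgroup G) : Set G) := fun h hh =>
    mem_normalizer_of_conj fun x hx => by
      refine Cores.mem_conj_smul.2 ?_
      have := (mem_normalizer_iff.1 (hnX (Cores.mem_conj_smul.1 hh)) _).1 (Cores.mem_conj_smul.1 hx)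
      simpa [mul_assoc] using this
  have hT' : Nat.card ↥(MulAut.conj g • H ⊓ MulAut.conj g⁻¹ • (MulAut.conj g • H)) = 2 ^ n := by
    rw [hback, inf_comm]; exact hn
  have h := d.flip.le_inf_of_two hT' (Subgroup.pointwise_smul_le_pointwise_smul_iff.2 hX)
    (hX2.of_equiv (Subgroup.equivSMul (MulAut.conj g) X)) hn'
  rwa [hback, inf_comm] at h

/-- The local configuration, together with the projection on `S₄`. -/
theorem Data.exists_fourTwo (d : Data H g)
    (e : H ≃* Equiv.Perm (Fin 4) × Multiplicative (ZMod 2)) :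
    ∃ (z c : G) (V : Subgroup G) (π : H →* Equiv.Perm (Fin 4)),
      FourTwo H g z c V ∧ Function.Surjective π ∧ (∀ h, π h = 1 → (h : G) = 1 ∨ (h : G) = z) ∧
      (∀ v : H, (v : G) ∈ V → Equiv.Perm.sign (π v) = 1) ∧
      ∃ x ∈ MulAut.conj g • V, ∀ hx : x ∈ H, Equiv.Perm.sign (π ⟨x, hx⟩) ≠ 1 := by
  classical
  haveI := Fact.mk Nat.prime_two
  set π : H →* Equiv.Perm (Fin 4) := (MonoidHom.fst _ _).comp e.toMonoidHom with hπdef
  set ε : H →* Multiplicative (ZMod 2) := (MonoidHom.snd _ _).comp e.toMonoidHom with hεdef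
  have hext : ∀ a b : H, π a = π b → ε a = ε b → a = b := fun a b h1 h2 => e.injective (Prod.ext h1 h2)
  have hπsymm : ∀ p t, π (e.symm (p, t)) = p := fun p t => congrArg Prod.fst (e.apply_symm_apply (p, t))
  have hεsymm : ∀ p t, ε (e.symm (p, t)) = t := fun p t => congrArg Prod.snd (e.apply_symm_apply (p, t))
  set σ : Multiplicative (ZMod 2) := Multiplicative.ofAdd 1 with hσ
  have hσ1 : σ ≠ 1 := ofAdd_one_ne
  set zH : H := e.symm (1, σ) with hzH
  set z : G := (zH : G) with hzdef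
  have hzm : z ∈ H := zH.2
  have hπz : π zH = 1 := hπsymm 1 σ
  have hεz : ε zH = σ := hεsymm 1 σ
  have hz1H : zH ≠ 1 := fun h => hσ1 (by rw [← hεz, h, map_one])
  have hz1 : z ≠ 1 := fun h => hz1H (Subtype.ext h)
  have hz2H : zH * zH = 1 :=
    hext _ _ (by rw [map_mul, hπz, one_mul, map_one]) (by rw [map_mul, hεz, (two_elements σ).1, map_one])
  have hz2 : z * z = 1 := congrArg Subtype.val hz2H
  have hzc : ∀ h ∈ H, h * z = z * h := fun h hh => congrArg Subtype.val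
    (hext (⟨h, hh⟩ * zH) (zH * ⟨h, hh⟩) (by rw [map_mul, map_mul, hπz, mul_one, one_mul])
      (by rw [map_mul, map_mul, mul_comm]))
  have hCz : centralizer ({z} : Set G) = H := d.centralizer_eq hzm hz1 hzc
  have hker : ∀ h, π h = 1 → (h : G) = 1 ∨ (h : G) = z := fun h hh => by
    rcases (two_elements (ε h)).2 with h' | h'
    · exact Or.inl (congrArg Subtype.val (hext h 1 (hh.trans (map_one π).symm) (h'.trans (map_one ε).symm)))
    · exact Or.inr (congrArg Subtype.val (hext h zH (hh.trans hπz.symm) (h'.trans hεz.symm)))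
  have h48 : Nat.card H = 48 := by
    rw [Nat.card_congr e.toEquiv, Nat.card_prod, Nat.card_perm, Nat.card_fin,
      Nat.card_congr Multiplicative.toAdd, Nat.card_zmod]
    rfl
  set T := H ⊓ MulAut.conj g • H with hTdef
  have hT16 : Nat.card T = 2 ^ 4 := by
    have := d.card_inf
    rw [h48] at this
    show Nat.card ↥(H ⊓ MulAut.conj g • H) = 2 ^ 4
    omega
  set j : Equiv.Perm (Fin 4) →* G :=
    H.subtype.comp (e.symm.toMonoidHom.comp (MonoidHom.inl _ _)) with hj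
  have hjinj : Function.Injective j := fun a b h =>
    congrArg Prod.fst (e.symm.injective (H.subtype_injective h))
  set V := PSL2.fourV.map j with hVdef
  have hV : IsKleinFour V := PSL2.isKleinFour_map_fourV j hjinj
  have hmem : ∀ h : H, (h : G) ∈ V ↔ π h ∈ PSL2.fourV ∧ ε h = 1 := fun h => by
    refine ⟨?_, fun hh => ⟨π h, hh.1, congrArg Subtype.val
      (hext (e.symm (π h, 1)) h (hπsymm _ _) ((hεsymm _ _).trans hh.2.symm))⟩⟩
    rintro ⟨y, hy, hyx⟩
    obtain rfl : e.symm (y, 1) = h := Subtype.ext hyx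
    exact ⟨by rw [hπsymm]; exact hy, hεsymm _ _⟩
  have hVH : V ≤ H := by rintro _ ⟨y, -, rfl⟩; exact (e.symm (y, 1)).2
  have hVb : V ≠ ⊥ := fun h => by
    have := hV.card_four
    rw [h, Subgroup.card_bot] at this
    norm_num at this
  have hnH : H ≤ normalizer (V : Set G) := fun h hh => mem_normalizer_of_conj fun x hx => by
    have h1 := (hmem ⟨x, hVH hx⟩).1 hx
    refine (hmem (⟨h, hh⟩ * ⟨x, hVH hx⟩ * (⟨h, hh⟩ : H)⁻¹)).2 ⟨?_, ?_⟩
    · rw [map_mul, map_mul, map_inv]; exact PSL2.fourV_conj _ h1.1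
    · rw [map_mul, map_mul, map_inv, h1.2, mul_one, mul_inv_cancel]
  have hVZ : ∀ h : H, π h ∈ PSL2.fourV → (h : G) ∈ V ∨ (h : G) * z ∈ V := fun h hh => by
    rcases (two_elements (ε h)).2 with h' | h'
    · exact Or.inl ((hmem h).2 ⟨hh, h'⟩)
    · exact Or.inr ((hmem (h * zH)).2
        ⟨by rw [map_mul, hπz, mul_one]; exact hh, by rw [map_mul, hεz, h', (two_elements σ).1]⟩)
  have hVZ' : ∀ (w : G) (hw : w ∈ H), (w ∈ V ∨ w * z ∈ V) → π ⟨w, hw⟩ ∈ PSL2.fourV := fun w hw h => by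
    rcases h with h | h
    · exact ((hmem ⟨w, hw⟩).1 h).1
    · have h' := ((hmem (⟨w, hw⟩ * zH)).1 h).1
      rwa [map_mul, hπz, mul_one] at h'
  have hzV : z ∉ V := fun h => hσ1 (by rw [← hεz]; exact ((hmem zH).1 h).2)
  -- the preimage of the four group
  set VZ := (PSL2.fourV.comap π).map H.subtype with hVZdef
  have hmemVZ : ∀ w, w ∈ VZ ↔ w ∈ H ∧ (w ∈ V ∨ w * z ∈ V) := fun w => by
    constructor
    · rintro ⟨h, hh, rfl⟩
      exact ⟨h.2, hVZ h hh⟩
    · rintro ⟨hw, h⟩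
      exact ⟨⟨w, hw⟩, hVZ' w hw h, rfl⟩
  have hVZH : VZ ≤ H := fun w hw => ((hmemVZ w).1 hw).1
  have hVVZ : V ≤ VZ := fun v hv => (hmemVZ v).2 ⟨hVH hv, Or.inl hv⟩
  have hzVZ : z ∈ VZ := (hmemVZ z).2 ⟨hzm, Or.inr (by rw [hz2]; exact V.one_mem)⟩
  have hv2 : ∀ v ∈ V, v * v = 1 := fun v hv => congrArg Subtype.val (hV.mul_self ⟨v, hv⟩)
  have hVZ2 : IsPGroup 2 VZ := fun w => ⟨1, Subtype.ext (by
    rw [SubgroupClass.coe_pow, pow_one, Subgroup.coe_one, pow_two]
    obtain ⟨hwH, h | h⟩ := (hmemVZ w).1 w.2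
    · exact hv2 _ h
    · have h' := hv2 _ h
      have hc := hzc _ hwH
      calc (w : G) * w = w * w * (z * z) := by rw [hz2, mul_one]
        _ = w * (w * z) * z := by group
        _ = w * (z * w) * z := by rw [hc]
        _ = w * z * (w * z) := by group
        _ = 1 := h')⟩
  have hnVZ : H ≤ normalizer (VZ : Set G) := fun h hh => mem_normalizer_of_conj fun w hw => by
    obtain ⟨hwH, hw'⟩ := (hmemVZ w).1 hw
    refine ⟨⟨h, hh⟩ * ⟨w, hwH⟩ * (⟨h, hh⟩ : H)⁻¹, ?_, rfl⟩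
    rw [SetLike.mem_coe, mem_comap, map_mul, map_mul, map_inv]
    exact PSL2.fourV_conj _ (hVZ' w hwH hw')
  obtain ⟨hVZT, hVZT'⟩ := d.both_le_inf hT16 hVZH hVZ2 hnVZ
  set V' := MulAut.conj g • V with hV'def
  have hV'T : V' ≤ T := (Subgroup.pointwise_smul_le_pointwise_smul_iff.2 hVVZ).trans hVZT'
  have hz'T : g * z * g⁻¹ ∈ T := hVZT' (conj_mem_smul hzVZ)
  have hsqV : ∀ h : H, h ^ 16 = 1 → ((h * h : H) : G) ∈ V := fun h h16 => by
    refine (hmem _).2 ⟨?_, by rw [map_mul, (two_elements _).1]⟩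
    have h4 : π h ^ 4 = 1 := by
      rcases perm_four_orders (π h) with h' | h'
      · exact h'
      · have h'' : π h ^ 16 = 1 := by rw [← map_pow, h16, map_one]
        have := orderOf_eq_one_iff.1 (Nat.eq_one_of_dvd_coprimes (by norm_num : Nat.Coprime 3 16)
          (orderOf_dvd_of_pow_eq_one h') (orderOf_dvd_of_pow_eq_one h''))
        rw [this, one_pow]
    rw [map_mul]
    refine PSL2.mem_fourV.2 ⟨?_, by rw [map_mul, Int.units_mul_self]⟩
    rw [← pow_two, ← pow_two, ← pow_mul]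
    exact h4
  have hsqT : ∀ s ∈ T, s * s ∈ V ∧ s * s ∈ V' := fun s hs => by
    have h16 : s ^ 16 = 1 := by
      have h := pow_card_eq_one' (x := (⟨s, hs⟩ : T))
      rw [hT16] at h
      exact congrArg Subtype.val h
    refine ⟨hsqV ⟨s, hs.1⟩ (Subtype.ext (by rw [SubgroupClass.coe_pow]; exact h16)),
      Cores.mem_conj_smul.2 ?_⟩
    have h' := hsqV ⟨g⁻¹ * s * g, Cores.mem_conj_smul.1 hs.2⟩ (Subtype.ext (by
      rw [SubgroupClass.coe_pow]
      show (g⁻¹ * s * g) ^ 16 = 1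
      have := conj_pow (i := 16) (a := g⁻¹) (b := s)
      rw [inv_inv] at this
      rw [this, h16, mul_one, inv_mul_cancel]))
    rw [show g⁻¹ * (s * s) * g = g⁻¹ * s * g * (g⁻¹ * s * g) by group]
    exact h'
  -- an element of order four
  obtain ⟨y, hy, hy2⟩ : ∃ y ∈ T, y * y ≠ 1 := by
    by_contra hcon
    push Not at hcon
    have hcomm : ∀ a ∈ T, ∀ b ∈ T, a * b = b * a := fun a ha b hb => by
      rw [eq_inv_of_mul_eq_one_left (hcon _ (T.mul_mem ha hb)), _root_.mul_inv_rev,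
        inv_eq_of_mul_eq_one_right (hcon a ha), inv_eq_of_mul_eq_one_right (hcon b hb)]
    have hsq1 : ∀ s : T, π ⟨s, s.2.1⟩ * π ⟨s, s.2.1⟩ = 1 := fun s => by
      rw [← map_mul, show (⟨s, s.2.1⟩ : H) * ⟨s, s.2.1⟩ = 1 from Subtype.ext (hcon s s.2), map_one]
    by_cases htriv : ∀ s : T, π ⟨s, s.2.1⟩ = 1
    · have h := Nat.card_le_card_of_injective (fun s : T => ε ⟨s, s.2.1⟩) fun a b hab =>
        Subtype.ext (congrArg Subtype.val
          (hext ⟨a, a.2.1⟩ ⟨b, b.2.1⟩ ((htriv a).trans (htriv b).symm) hab) :)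
      rw [hT16, Nat.card_congr Multiplicative.toAdd, Nat.card_zmod] at h
      norm_num at h
    push Not at htriv
    obtain ⟨a, ha⟩ := htriv
    let F : T → {b : Equiv.Perm (Fin 4) // b * b = 1 ∧ π ⟨a, a.2.1⟩ * b = b * π ⟨a, a.2.1⟩} ×
        Multiplicative (ZMod 2) := fun s =>
      (⟨π ⟨s, s.2.1⟩, hsq1 s, by
        rw [← map_mul, ← map_mul]
        exact congrArg π (Subtype.ext (hcomm a a.2 s s.2))⟩, ε ⟨s, s.2.1⟩)
    have h := Nat.card_le_card_of_injective F fun p q hpq => by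
      simp only [F, Prod.mk.injEq, Subtype.mk.injEq] at hpq
      exact Subtype.ext (congrArg Subtype.val (hext ⟨p, p.2.1⟩ ⟨q, q.2.1⟩ hpq.1 hpq.2) :)
    rw [hT16, Nat.card_prod, Nat.card_congr Multiplicative.toAdd, Nat.card_zmod,
      Nat.card_eq_fintype_card] at h
    have := few_commuting _ (hsq1 a) ha
    omega
  set c := y * y with hcdef
  obtain ⟨hcV, hcV'⟩ := hsqT y hy
  have hc2 : c * c = 1 := hv2 c hcV
  have hπc : π ⟨c, hVH hcV⟩ = π ⟨y, hy.1⟩ * π ⟨y, hy.1⟩ := by rw [← map_mul]; rfl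
  have hπc1 : π ⟨c, hVH hcV⟩ ≠ 1 := fun h => hy2 (congrArg Subtype.val
    (hext ⟨c, hVH hcV⟩ 1 (h.trans (map_one π).symm) (((hmem ⟨c, hVH hcV⟩).1 hcV).2.trans (map_one ε).symm)))
  -- the conjugate of `z`
  have hz' : g * z * g⁻¹ = c * z := by
    have hcom : y * (g * z * g⁻¹) = g * z * g⁻¹ * y := by
      have := hzc _ (Cores.mem_conj_smul.1 hy.2)
      calc y * (g * z * g⁻¹) = g * (g⁻¹ * y * g * z) * g⁻¹ := by group
        _ = g * (z * (g⁻¹ * y * g)) * g⁻¹ := by rw [this]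
        _ = g * z * g⁻¹ * y := by group
    have hsq' : g * z * g⁻¹ * (g * z * g⁻¹) = 1 := by
      rw [show g * z * g⁻¹ * (g * z * g⁻¹) = g * (z * z) * g⁻¹ by group, hz2]; group
    rcases cent_four_cycle (π ⟨y, hy.1⟩)
      (by rw [← hπc, ← map_mul]
          exact (congrArg π (Subtype.ext hc2)).trans (map_one π))
      (by rw [← hπc]; exact hπc1) (π ⟨_, hz'T.1⟩)
      (by rw [← map_mul]; exact (congrArg π (Subtype.ext hsq')).trans (map_one π))
      (by rw [← map_mul, ← map_mul]; exact congrArg π (Subtype.ext hcom)) with h | h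
    · exfalso
      rcases hker _ h with h' | h'
      · exact hz1 (conj_eq_one_iff.1 h')
      · apply d.not_mem
        rw [← hCz, mem_centralizer_singleton_iff]
        exact mul_inv_eq_iff_eq_mul.1 h'
    · have h1 : π (⟨_, hz'T.1⟩ * ⟨c, hVH hcV⟩) = 1 := by
        rw [map_mul, h, ← hπc, ← map_mul]
        exact (congrArg π (Subtype.ext hc2)).trans (map_one π)
      rcases hker _ h1 with h' | h'
      · exfalso
        have he : g * z * g⁻¹ = c :=
          (eq_inv_of_mul_eq_one_left h').trans (inv_eq_of_mul_eq_one_right hc2)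
        have := Cores.mem_conj_smul.1 (he.symm ▸ hcV' : g * z * g⁻¹ ∈ V')
        exact hzV (by simpa [mul_assoc] using this)
      · have he : g * z * g⁻¹ * c * c = z * c := congrArg (· * c) h'
        rw [mul_assoc, hc2, mul_one] at he
        rw [he]; exact (hzc c (hVH hcV)).symm
  have hgV : IsKleinFour V' := isKleinFour_smul g hV
  have hw2 : ∀ w ∈ V', w * w = 1 := fun w hw => congrArg Subtype.val (hgV.mul_self ⟨w, hw⟩)
  -- the conjugate four group is not inside `V Z`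
  obtain ⟨x, hxV', hxodd⟩ : ∃ x ∈ V', ¬ (x ∈ V ∨ x * z ∈ V) := by
    by_contra hcon
    push Not at hcon
    have hsub : ∀ w ∈ V', w ∈ VZ := fun w hw =>
      (hmemVZ w).2 ⟨(hV'T hw).1, hcon w hw⟩
    have hle : MulAut.conj g • VZ ≤ VZ := fun w hw => by
      obtain ⟨-, h⟩ := (hmemVZ _).1 (Cores.mem_conj_smul.1 hw)
      rcases h with h | h
      · exact hsub w (Cores.mem_conj_smul.2 h)
      · have h1 : w * (g * z * g⁻¹) ∈ V' := Cores.mem_conj_smul.2 (by
          rw [show g⁻¹ * (w * (g * z * g⁻¹)) * g = g⁻¹ * w * g * z by group]; exact h)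
        have h2 : g * z * g⁻¹ ∈ VZ := by rw [hz']; exact VZ.mul_mem (hVVZ hcV) hzVZ
        exact (VZ.mul_mem_cancel_right h2).1 (hsub _ h1)
    have heq := eq_of_le_of_card_ge hle (by rw [card_smul])
    have hb : VZ ≠ ⊥ := fun h => hz1 (mem_bot.1 (h ▸ hzVZ))
    exact d.not_mem (d.normalizer_eq hb hVZH hnVZ ▸ Cores.conj_smul_eq_self_iff.1 heq)
  have hxH : x ∈ H := (hV'T hxV').1
  have hxf : π ⟨x, hxH⟩ ∉ PSL2.fourV := fun h => hxodd (hVZ ⟨x, hxH⟩ h)
  have hπx2 : π ⟨x, hxH⟩ * π ⟨x, hxH⟩ = 1 := by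
    rw [← map_mul]; exact (congrArg π (Subtype.ext (hw2 x hxV'))).trans (map_one π)
  have hxs : Equiv.Perm.sign (π ⟨x, hxH⟩) ≠ 1 := fun h => hxf ⟨hπx2, h⟩
  have hx1 : x ≠ 1 := fun h => hxodd (Or.inl (h ▸ V.one_mem))
  have hxc : x ≠ c := fun h => hxodd (Or.inl (h ▸ hcV))
  have hc1 : c ≠ 1 := hy2
  have hmeet : ∀ w ∈ V', (w ∈ V ∨ w * z ∈ V) → w = 1 ∨ w = c := fun w hw h => by
    have hf := hVZ' w (hV'T hw).1 h
    rcases klein_mem hgV hcV' hxV' hw hc1 hx1 (Ne.symm hxc) with rfl | rfl | rfl | rfl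
    · exact Or.inl rfl
    · exact Or.inr rfl
    · exact absurd hf hxf
    · exfalso
      refine hxf ?_
      have hcf := ((hmem ⟨c, hVH hcV⟩).1 hcV).1
      rw [show (⟨c * x, (hV'T hw).1⟩ : H) = ⟨c, hVH hcV⟩ * ⟨x, hxH⟩ from rfl, map_mul] at hf
      exact (PSL2.fourV.mul_mem_cancel_left hcf).1 hf
  have hVT : V ≤ T := hVVZ.trans hVZT
  have hcT : ∀ s ∈ T, s * c * s⁻¹ = c := fun s hs => by
    have h1 : s * c * s⁻¹ ∈ V := (mem_normalizer_iff.1 (hnH hs.1) c).1 hcV
    have h2 : s * c * s⁻¹ ∈ V' := Cores.mem_conj_smul.2 (by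
      have := (mem_normalizer_iff.1 (hnH (Cores.mem_conj_smul.1 hs.2)) _).1 (Cores.mem_conj_smul.1 hcV')
      rw [show g⁻¹ * (s * c * s⁻¹) * g = g⁻¹ * s * g * (g⁻¹ * c * g) * (g⁻¹ * s * g)⁻¹ by group]
      exact this)
    rcases hmeet _ h2 (Or.inl h1) with h | h
    · exact absurd (conj_eq_one_iff.1 h) hc1
    · exact h
  have h4 : ∀ (s : G) (hs : s ∈ T), π ⟨s, hs.1⟩ * π ⟨s, hs.1⟩ * (π ⟨s, hs.1⟩ * π ⟨s, hs.1⟩) = 1 :=
    fun s hs => by
      rw [← map_mul, ← map_mul]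
      exact (congrArg π (Subtype.ext (hv2 _ (hsqT s hs).1))).trans (map_one π)
  refine ⟨z, c, V, π, ?_, fun p => ⟨e.symm (p, 1), hπsymm p 1⟩, hker,
    fun v hv => ((hmem v).1 hv).1.2, x, hxV', fun _ => hxs⟩
  refine ⟨hz', hCz, h48, hT16, hz2, hc2, hc1, hV, hnH, hVT, hV'T, hcV, hcV', hzV, hmeet, ?_, ?_, ?_, ?_,
    fun s hs => ?_, y, hy, hcdef.symm⟩
  · intro v hv hv1
    have h1 := (hmem ⟨v, hVH hv⟩).1 hv
    have h0 := (hmem ⟨c, hVH hcV⟩).1 hcV
    obtain ⟨p, hp⟩ := fourV_transitive _ h0.1.1 h0.1.2 hπc1 _ h1.1.1 h1.1.2 fun h => hv1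
      (congrArg Subtype.val (hext ⟨v, hVH hv⟩ 1 (h.trans (map_one π).symm) (h1.2.trans (map_one ε).symm)))
    refine ⟨(e.symm (p, 1) : H), (e.symm (p, 1)).2, congrArg Subtype.val
      (hext (e.symm (p, 1) * ⟨c, hVH hcV⟩ * (e.symm (p, 1))⁻¹) ⟨v, hVH hv⟩ ?_ ?_)⟩
    · rw [map_mul, map_mul, map_inv, hπsymm]; exact hp
    · rw [map_mul, map_mul, map_inv, hεsymm, h0.2, h1.2, one_mul, inv_one, one_mul]
  · intro s hs
    by_cases hsg : Equiv.Perm.sign (π ⟨s, hs.1⟩) = 1
    · rcases hVZ ⟨s, hs.1⟩ ⟨even_two_element _ (h4 s hs) hsg, hsg⟩ with h | h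
      · exact ⟨_, h, 1, one_mem _, Or.inl (mul_one s).symm⟩
      · exact ⟨_, h, 1, one_mem _, Or.inr (mul_one _).symm⟩
    · have hm : s * x ∈ T := T.mul_mem hs (hV'T hxV')
      have hsg' : Equiv.Perm.sign (π ⟨s * x, hm.1⟩) = 1 := by
        rw [show (⟨s * x, hm.1⟩ : H) = ⟨s, hs.1⟩ * ⟨x, hxH⟩ from rfl, map_mul, map_mul,
          (Int.units_eq_one_or _).resolve_left hsg, (Int.units_eq_one_or _).resolve_left hxs,
          Int.units_mul_self]
      rcases hVZ ⟨s * x, hm.1⟩ ⟨even_two_element _ (h4 _ hm) hsg', hsg'⟩ with h | h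
      · exact ⟨_, h, x, hxV', Or.inl (by
          show s = s * x * x
          rw [mul_assoc, hw2 x hxV', mul_one])⟩
      · exact ⟨_, h, x, hxV', Or.inr (by
          show s * z = s * x * z * x
          rw [mul_assoc (s * x), ← hzc x hxH, ← mul_assoc, mul_assoc s x x, hw2 x hxV', mul_one])⟩
  · intro s hs hs2
    by_cases hsg : Equiv.Perm.sign (π ⟨s, hs.1⟩) = 1
    · rcases hVZ ⟨s, hs.1⟩ ⟨even_two_element _ (h4 s hs) hsg, hsg⟩ with h | h
      exacts [Or.inl h, Or.inr (Or.inl h)]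
    · have hc0 := (hmem ⟨c, hVH hcV⟩).1 hcV
      have hcm : ∀ t (ht : t ∈ T), π ⟨t, ht.1⟩ * π ⟨c, hVH hcV⟩ = π ⟨c, hVH hcV⟩ * π ⟨t, ht.1⟩ :=
        fun t ht => by
          rw [← map_mul, ← map_mul]
          exact congrArg π (Subtype.ext (mul_inv_eq_iff_eq_mul.1 (hcT t ht)))
      have hm : ∀ w (hw : w ∈ V'), π ⟨s, hs.1⟩ = π ⟨w, (hV'T hw).1⟩ → s ∈ V' ∨ s * z ∈ V' := by
        intro w hw hπ
        have h1 : π (⟨s, hs.1⟩ * ⟨w, (hV'T hw).1⟩) = 1 := by
          rw [map_mul, hπ, ← map_mul]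
          exact (congrArg π (Subtype.ext (hw2 w hw))).trans (map_one π)
        rcases hker _ h1 with h | h
        · refine Or.inl ?_
          rw [show s = w from (eq_inv_of_mul_eq_one_left h).trans (inv_eq_of_mul_eq_one_right (hw2 w hw))]
          exact hw
        · refine Or.inr ?_
          have e' : s * z = w := by
            have h'' : s * w = z := h
            calc s * z = s * (s * w) := by rw [h'']
              _ = s * s * w := (mul_assoc _ _ _).symm
              _ = w := by rw [hs2, one_mul]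
          exact e'.symm ▸ hw
      rcases odd_involutions (π ⟨c, hVH hcV⟩) (π ⟨x, hxH⟩) (π ⟨s, hs.1⟩)
        ⟨hc0.1.1, hc0.1.2, hπc1, hπx2, hxs, hcm x (hV'T hxV'),
          by rw [← map_mul]; exact (congrArg π (Subtype.ext hs2)).trans (map_one π), hsg, hcm s hs⟩
        with h | h
      · exact Or.inr (Or.inr (hm x hxV' h))
      · exact Or.inr (Or.inr (hm (c * x) (V'.mul_mem hcV' hxV') (h.trans (map_mul π _ _).symm)))
  · intro k hk hcen
    refine hVZ ⟨k, hk⟩ (cent_fourV _ fun v hv2' hvs => ?_)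
    have hvV : ((e.symm (v, 1) : H) : G) ∈ V :=
      (hmem _).2 ⟨by rw [hπsymm]; exact ⟨hv2', hvs⟩, hεsymm _ _⟩
    rw [← hπsymm v 1, ← map_mul, ← map_mul]
    exact congrArg π (Subtype.ext (hcen _ hvV))
  · obtain ⟨h1, h2⟩ := hsqT s hs
    exact hmeet _ h2 (Or.inl h1)

/-- Stabilizers `S₄ × 2`: a normal subgroup of index two isomorphic to `PSL₃(3)`. -/
theorem Data.case_four_two (d : Data H g)
    (e : H ≃* Equiv.Perm (Fin 4) × Multiplicative (ZMod 2)) :
    ∃ N : Subgroup G, N.Normal ∧ N.index = 2 ∧ centralizer (N : Set G) = ⊥ ∧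
      Nonempty (N ≃* Matrix.ProjectiveSpecialLinearGroup (Fin 3) (ZMod 3)) := by
  classical
  haveI := Fact.mk Nat.prime_two
  obtain ⟨z, c, V, π, S, hπs, hker, hVs, x, hxV', hxs⟩ := d.exists_fourTwo e
  set V' := MulAut.conj g • V with hV'def
  have hxH : x ∈ H := (S.le_T' hxV').1
  have hVH : V ≤ H := S.le_T.trans inf_le_left
  have hzH : z ∈ H := S.z_mem.1
  have hzi : z⁻¹ = z := inv_eq_of_mul_eq_one_right S.z_sq
  obtain ⟨N, hN, -⟩ := exists_minNormal (⊤ : Subgroup G) inferInstance (fun h => d.insol (by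
    haveI : Subsingleton G := subsingleton_of_forall_eq 1 fun y => mem_bot.1 (h ▸ mem_top y)
    exact Group.isSolvable_of_comm fun a b => Subsingleton.elim _ _))
  haveI := hN.normal
  obtain ⟨n, hn, h, hh, hnh⟩ := d.decomp hN.normal hN.ne g
  have hcj : ∀ w, n * w * n⁻¹ * w⁻¹ ∈ N := fun w => by
    rw [show n * w * n⁻¹ * w⁻¹ = n * (w * n⁻¹ * w⁻¹) by group]
    exact N.mul_mem hn (hN.normal.conj_mem _ (N.inv_mem hn) w)
  have hcN : c ∈ N := by
    have he : n * z * n⁻¹ * z⁻¹ = c := by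
      have h' : n * h * z * (n * h)⁻¹ = c * z := by rw [hnh]; exact S.conj_z
      calc n * z * n⁻¹ * z⁻¹ = n * (z * h) * (n * h)⁻¹ * z⁻¹ := by group
        _ = n * (h * z) * (n * h)⁻¹ * z⁻¹ := by rw [S.z_comm hh]
        _ = c * z * z⁻¹ := by rw [← h']; group
        _ = c := mul_inv_cancel_right _ _
    exact he ▸ hcj z
  have hVN : V ≤ N := fun v hv => by
    by_cases hv1 : v = 1
    · exact hv1 ▸ N.one_mem
    · obtain ⟨k, -, rfl⟩ := S.conj_c v hv hv1
      exact hN.normal.conj_mem c hcN k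
  have hV'N : V' ≤ N := fun w hw => by
    have := hN.normal.conj_mem _ (hVN (Cores.mem_conj_smul.1 hw)) g
    simpa [mul_assoc] using this
  have hK : (N.subgroupOf H).map π = ⊤ :=
    perm_four_normal_top ((Subgroup.Normal.subgroupOf hN.normal H).map _ hπs)
      ⟨⟨x, hxH⟩, mem_subgroupOf.2 (hV'N hxV'), rfl⟩ (hxs hxH)
  have hsplitH : ∀ k ∈ H, k ∈ N ∨ z * k ∈ N := fun k hk => by
    obtain ⟨m, hm, hme⟩ : π ⟨k, hk⟩ ∈ (N.subgroupOf H).map π := hK ▸ mem_top _
    rcases hker (⟨k, hk⟩ * m⁻¹) (by rw [map_mul, map_inv, hme, mul_inv_cancel]) with h' | h'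
    · exact Or.inl ((mul_inv_eq_one.1 h' : k = m) ▸ hm)
    · refine Or.inr ?_
      have h'' : k = z * m := mul_inv_eq_iff_eq_mul.1 h'
      rw [h'', ← mul_assoc, S.z_sq, one_mul]
      exact hm
  by_cases hzN : z ∈ N
  · exfalso
    have hHN : H ≤ N := fun k hk => by
      rcases hsplitH k hk with h' | h'
      · exact h'
      · exact (N.mul_mem_cancel_left hzN).1 h'
    have htop : N = ⊤ := by rw [← d.sup_eq_top hN.normal hN.ne, sup_eq_left.2 hHN]
    subst htop
    obtain ⟨hs, hna⟩ := hN.isSimple_top d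
    haveI := hs
    exact S.false_of_simple hna
  have hsplit : ∀ y : G, y ∈ N ∨ z * y ∈ N := fun y => by
    obtain ⟨m, hm, k, hk, rfl⟩ := d.decomp hN.normal hN.ne y
    rcases hsplitH k hk with h' | h'
    · exact Or.inl (N.mul_mem hm h')
    · refine Or.inr ?_
      rw [show z * (m * k) = z * m * z⁻¹ * (z * k) by group]
      exact N.mul_mem (hN.normal.conj_mem m hm z) h'
  have hi : N.index = 2 := Subgroup.index_eq_two_iff'.2 ⟨z, fun b => (xor_iff_not_iff _ _).2 fun h => by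
    rcases hsplit b with h' | h'
    · exact hzN ((N.mul_mem_cancel_right h').1 (h.2 h'))
    · exact hzN ((N.mul_mem_cancel_right (h.1 h')).1 h')⟩
  obtain ⟨hs, hna⟩ := d.isSimple hN hi hzN S.z_sq (by
    haveI := d.solv
    exact Group.isSolvable_of_isSolvable_injective
      (f := Subgroup.inclusion (inf_le_right.trans S.cent_z.le)) (Subgroup.inclusion_injective _))
  haveI := hs
  refine ⟨N, hN.normal, hi, d.centralizer_eq_bot hN.normal hi, ?_⟩
  set V₀ := V.subgroupOf N with hV₀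
  have hV₀4 : IsKleinFour V₀ := Transfer.isKleinFour_congr (subgroupOfEquivOfLe hVN).symm S.klein
  have hVb : V ≠ ⊥ := fun h' => by
    have := S.klein.card_four
    rw [h', Subgroup.card_bot] at this
    norm_num at this
  have hNV : normalizer (V : Set G) = H := d.normalizer_eq hVb hVH S.le_norm
  have hC : centralizer (V₀ : Set N) = V₀ := by
    refine le_antisymm (fun k hk => ?_) ?_
    · have hkc : ∀ v ∈ V, v * (k : G) = k * v := fun v hv =>
        congrArg Subtype.val (mem_centralizer_iff.1 hk ⟨v, hVN hv⟩ hv)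
      have hkH : (k : G) ∈ H := hNV ▸ centralizer_le_normalizer _ (mem_centralizer_iff.2 hkc)
      refine mem_subgroupOf.2 ((S.cent_V k hkH hkc).resolve_right fun h' => hzN ?_)
      exact (N.mul_mem_cancel_left k.2).1 (hVN h')
    · exact le_centralizer_iff_isMulCommutative.2
        ⟨⟨fun a b => mul_comm_of_exponent_two hV₀4.exponent_two a b⟩⟩
  have hcore := four_core hna hV₀4 hC (n := (⟨n, hn⟩ : N))
    (fun k hk => mem_normalizer_of_conj fun v hv => mem_subgroupOf.2 (by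
      have h1 : n⁻¹ * (k : G) * n ∈ V := mem_subgroupOf.1 (Cores.mem_conj_smul.1 hk)
      have h2 : (k : G) ∈ V' := Cores.mem_conj_smul.2 (by
        have h3 : h⁻¹ * (n⁻¹ * k * n) * h ∈ V := by
          simpa using (mem_normalizer_iff.1 (inv_mem (S.le_norm hh)) _).1 h1
        rw [← hnh, show (n * h)⁻¹ * (k : G) * (n * h) = h⁻¹ * (n⁻¹ * k * n) * h by group]
        exact h3)
      exact (mem_normalizer_iff.1 (S.le_norm (S.le_T' h2).1) _).1 (mem_subgroupOf.1 hv)))
    (fun he => d.not_mem (by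
      rw [← hnh]
      refine H.mul_mem (hNV ▸ mem_normalizer_of_conj fun v hv => ?_) hh
      have hm : (⟨n, hn⟩ : N) * ⟨v, hVN hv⟩ * (⟨n, hn⟩ : N)⁻¹ ∈ V₀ :=
        he ▸ conj_mem_smul (mem_subgroupOf.2 hv)
      exact mem_subgroupOf.1 hm))
  rcases hcore with ⟨F, _, _, hodd, h16, ⟨f⟩⟩ | h' | ⟨-, -, hM⟩
  · exfalso
    have hoddN : Odd (Nat.card F) := by rwa [Nat.card_eq_fintype_card]
    have h9 : Nat.card F ≠ 9 := fun h9 => by
      have hc := PSL2.card_psl_mul (F := F)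
      rw [h9, show Nat.gcd 2 (9 - 1) = 2 from rfl] at hc
      have hN' : Nat.card N = Nat.card (PSL2.PSL2 F) := Nat.card_congr f.toEquiv
      omega
    set θ : MulAut N := MulAut.conjNormal z with hθdef
    let P : H.subgroupOf N →* Equiv.Perm (Fin 4) :=
      π.comp { toFun := fun k => ⟨((k : N) : G), k.2⟩, map_one' := rfl, map_mul' := fun _ _ => rfl }
    have hP : Function.Bijective P := by
      constructor
      · refine (injective_iff_map_eq_one P).2 fun k hk => ?_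
        rcases hker _ hk with h' | h'
        · exact Subtype.ext (Subtype.ext h')
        · exact absurd (k : N).2 (fun hm => hzN ((show ((k : N) : G) = z from h') ▸ hm))
      · intro p
        obtain ⟨m, hm, hme⟩ : p ∈ (N.subgroupOf H).map π := hK ▸ mem_top _
        exact ⟨⟨⟨(m : G), hm⟩, m.2⟩, hme⟩
    obtain ⟨v, hv⟩ := inner_of_fix_permFour hoddN h9 (α := MulAut.congr f θ)
      (by rw [← map_mul, hθdef, ← map_mul, S.z_sq, map_one, map_one])
      (K := (H.subgroupOf N).map f.toMonoidHom)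
      (((H.subgroupOf N).equivMapOfInjective f.toMonoidHom f.injective).symm.trans
        (MulEquiv.ofBijective P hP))
      (fun y => by
        obtain ⟨y, rfl⟩ := f.surjective y
        rw [show f y = f.toMonoidHom y from rfl, mem_map_iff_mem f.injective, mem_subgroupOf, ← S.cent_z,
          mem_centralizer_singleton_iff]
        show f (θ (f.symm (f y))) = f y ↔ _
        rw [f.symm_apply_apply, f.injective.eq_iff, Subtype.ext_iff, hθdef, MulAut.conjNormal_apply,
          mul_inv_eq_iff_eq_mul, eq_comm])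
    refine d.not_inner hN.normal hi hzN (f.symm v).2 fun y hy => ?_
    have := congrArg (fun a : MulAut (PSL2.PSL2 F) => f.symm (a (f ⟨y, hy⟩))) hv
    simp only [MulAut.conj_apply, map_mul, map_inv, MulEquiv.symm_apply_apply] at this
    have h2 := congrArg Subtype.val this
    simp only [Subgroup.coe_mul, InvMemClass.coe_inv] at h2
    rw [← h2]
    simp [MulAut.congr, hθdef]
  · exact h'
  · exact (d.mEleven_outer hN.normal hi hM hzN).elim

end Cfsg.Agent.SubThree
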