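/-
Stabilizers of order three and six.
-/
import Cfsg.Agent.Lib.SubThree.Gen
import Cfsg.Agent.Lib.PSL2.Facts
import Cfsg.Agent.Lib.PSL2.Soluble
import Cfsg.Agent.S3331

set_option autoImplicit false
set_option linter.unusedSectionVars false
set_option linter.style.haveILetI false

namespace Cfsg.Agent.SubThree

open Subgroup
open scoped Pointwise

universe u

variable {G : Type u} [Group G] [Finite G] {H : Subgroup G} {g : G}

theorem perm_three_center : ∀ a : Equiv.Perm (Fin 3), (∀ b, b * a = a * b) → a = 1 := by decide +kernel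

/-- The two groups left by a self-centralizing subgroup of order three. -/
theorem Data.three_cases (d : Data H g) {X : Subgroup G} (hX : Nat.card X = 3)
    (hC : centralizer (X : Set G) = X) :
    Nonempty (G ≃* alternatingGroup (Fin 5)) ∨
      Nonempty (G ≃* Matrix.ProjectiveSpecialLinearGroup (Fin 2) (ZMod 7)) := by
  rcases S3331.result X hX hC with ⟨N, hN, hnil, -, hq⟩ | ⟨N, hN, hcomm, -, ⟨f⟩⟩ | h
  · exfalso
    haveI := hN
    haveI := hnil
    have hNs : Group.IsSolvable N := inferInstance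
    refine d.insol ((Group.isSolvable_iff_subgroup_quotient N).2 ⟨hNs, ?_⟩)
    rcases hq with h3 | ⟨⟨f⟩⟩
    · haveI : Fact (Nat.Prime 3) := ⟨Nat.prime_three⟩
      haveI := (IsPGroup.of_card (p := 3) (n := 1) (G := G ⧸ N) (by rw [h3, pow_one])).isNilpotent
      infer_instance
    · haveI : Group.IsSolvable (Equiv.Perm (Fin 3)) :=
        PSL2.isSolvable_of_card_two_three (by rw [Nat.card_perm, Nat.card_fin]; decide)
      exact Group.isSolvable_of_isSolvable_injective (f := f.toMonoidHom) f.injective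
  · left
    have hbot : N = ⊥ := d.eq_bot_of_comm hN fun a ha b hb =>
      congrArg Subtype.val (hcomm.is_comm.comm (⟨a, ha⟩ : N) ⟨b, hb⟩)
    haveI := hN
    exact ⟨((QuotientGroup.quotientMulEquivOfEq hbot).trans QuotientGroup.quotientBot).symm.trans f⟩
  · exact Or.inr h

theorem card_psl_seven [Fact (Nat.Prime 7)] :
    Nat.card (Matrix.ProjectiveSpecialLinearGroup (Fin 2) (ZMod 7)) = 168 := by
  have h := PSL2.card_psl_mul (F := ZMod 7)
  rw [Nat.card_zmod, show Nat.gcd 2 (7 - 1) = 2 from rfl] at h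
  show Nat.card (PSL2.PSL2 (ZMod 7)) = 168
  omega

/-- No stabilizer of order three. -/
theorem Data.case_three (d : Data H g) (e : H ≃* Multiplicative (ZMod 3)) : False := by
  have h3 : Nat.card H = 3 := by
    rw [Nat.card_congr e.toEquiv, Nat.card_congr Multiplicative.toAdd, Nat.card_zmod]
  have hne : H ≠ ⊥ := fun h => by rw [h, card_bot] at h3; omega
  have hnorm : normalizer (H : Set G) = H := d.normalizer_eq hne le_rfl le_normalizer
  have hcomm : ∀ a ∈ H, ∀ b ∈ H, a * b = b * a := fun a ha b hb =>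
    congrArg Subtype.val (e.injective (by rw [map_mul, map_mul, mul_comm]) : (⟨a, ha⟩ : H) * ⟨b, hb⟩ = ⟨b, hb⟩ * ⟨a, ha⟩)
  have hC : centralizer (H : Set G) = H := le_antisymm ((centralizer_le_normalizer _).trans hnorm.le)
    fun a ha => mem_centralizer_iff.2 fun b hb => hcomm b hb a ha
  have key : ∀ m : ℕ, Nat.card G = 3 * m → ¬ 3 ∣ m → m % 3 ≠ 1 → False := fun m hG hm hm1 => by
    haveI : Fact (Nat.Prime 3) := ⟨Nat.prime_three⟩
    have hidx : H.index = m := by
      have h := H.card_mul_index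
      rw [h3, hG] at h
      omega
    let P : Sylow 3 G := (IsPGroup.of_card (n := 1) (p := 3) (G := H) (by rw [h3, pow_one])).toSylow
      (by rw [hidx]; exact hm)
    have h1 := card_sylow_modEq_one 3 G
    rw [Sylow.card_eq_index_normalizer P] at h1
    change (normalizer (H : Set G)).index ≡ 1 [MOD 3] at h1
    rw [hnorm, hidx] at h1
    exact hm1 h1
  rcases d.three_cases h3 hC with ⟨⟨f⟩⟩ | ⟨⟨f⟩⟩
  · exact key 20 (by rw [Nat.card_congr f.toEquiv, PSL2.card_alt_five]) (by norm_num) (by norm_num)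
  · haveI : Fact (Nat.Prime 7) := ⟨by norm_num⟩
    exact key 56 (by rw [Nat.card_congr f.toEquiv, card_psl_seven]) (by norm_num) (by norm_num)

/-- Stabilizers isomorphic to `S₃` give `A₅`. -/
theorem Data.case_six (d : Data H g) (e : H ≃* Equiv.Perm (Fin 3)) :
    Nonempty (G ≃* alternatingGroup (Fin 5)) := by
  haveI : Fact (Nat.Prime 3) := ⟨Nat.prime_three⟩
  have h6 : Nat.card H = 6 := by rw [Nat.card_congr e.toEquiv, Nat.card_perm, Nat.card_fin]; rfl
  obtain ⟨⟨x, hxH⟩, hx⟩ := exists_prime_orderOf_dvd_card' (G := H) 3 (by rw [h6]; norm_num)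
  rw [Subgroup.orderOf_mk] at hx
  set X := zpowers x
  have hX : Nat.card X = 3 := by rw [Nat.card_zpowers, hx]
  have hXH : X ≤ H := zpowers_le.2 hxH
  have hne : X ≠ ⊥ := fun h => by rw [h, card_bot] at hX; omega
  have hidx : (X.subgroupOf H).index = 2 := by
    have h := (X.subgroupOf H).card_mul_index
    rw [Cores.card_subgroupOf hXH, hX, h6] at h
    omega
  have hnX : H ≤ normalizer (X : Set G) :=
    (normal_subgroupOf_iff_le_normalizer hXH).1 (normal_of_index_eq_two hidx)
  have hnorm := d.normalizer_eq hne hXH hnX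
  have hle : X ≤ centralizer (X : Set G) := fun a ha => mem_centralizer_iff.2 fun b hb => by
    obtain ⟨i, rfl⟩ := mem_zpowers_iff.1 ha
    obtain ⟨j, rfl⟩ := mem_zpowers_iff.1 hb
    exact (Commute.zpow_zpow_self x j i).eq
  have hCH : centralizer (X : Set G) ≤ H := (centralizer_le_normalizer _).trans hnorm.le
  have hC : centralizer (X : Set G) = X := by
    refine le_antisymm (fun a ha => ?_) hle
    by_contra haX
    have hx1 : e ⟨x, hxH⟩ = 1 := by
      refine perm_three_center _ fun b => ?_
      obtain ⟨⟨b, hb⟩, rfl⟩ := e.surjective b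
      rw [← map_mul, ← map_mul]
      refine congrArg e (Subtype.ext ?_)
      show b * x = x * b
      have hxa : x * a = a * x := mem_centralizer_iff.1 ha x (mem_zpowers x)
      by_cases hbX : b ∈ X
      · obtain ⟨i, rfl⟩ := mem_zpowers_iff.1 hbX
        exact ((Commute.refl x).zpow_left i).eq
      · have hab : (⟨a, hCH ha⟩ * ⟨b, hb⟩ : H) ∈ X.subgroupOf H :=
          (mul_mem_iff_of_index_two hidx).2 (iff_of_false (fun h => haX (mem_subgroupOf.1 h))
            fun h => hbX (mem_subgroupOf.1 h))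
        obtain ⟨i, hi⟩ := mem_zpowers_iff.1 (mem_subgroupOf.1 hab)
        have hb' : b = a⁻¹ * x ^ i := by rw [hi]; show b = a⁻¹ * (a * b); group
        rw [hb']
        exact (((Commute.symm (show Commute x a from hxa)).inv_left).mul_left ((Commute.refl x).zpow_left i)).eq
    have h1 : (⟨x, hxH⟩ : H) = 1 := e.injective (hx1.trans (map_one e).symm)
    rw [show x = 1 from congrArg Subtype.val h1, orderOf_one] at hx
    omega
  refine (d.three_cases hX hC).resolve_right ?_
  rintro ⟨f⟩
  haveI : Fact (Nat.Prime 7) := ⟨by norm_num⟩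
  obtain ⟨K₀, ⟨eK⟩⟩ := (PSL2.exists_permFour_sub_iff (F := ZMod 7)).2 (by rw [Nat.card_zmod]; norm_num)
  set K := K₀.map f.symm.toMonoidHom with hKdef
  let j4 : Equiv.Perm (Fin 4) →* G :=
    f.symm.toMonoidHom.comp (K₀.subtype.comp eK.symm.toMonoidHom)
  have hj4 : Function.Injective j4 := fun a b h =>
    eK.symm.injective (K₀.subtype_injective (f.symm.injective h))
  let j3 : Equiv.Perm (Fin 3) →* G := j4.comp (Equiv.Perm.viaEmbeddingHom Fin.castSuccEmb)
  have hj3 : Function.Injective j3 := hj4.comp (Equiv.Perm.viaEmbeddingHom_injective _)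
  have hj3K : j3.range ≤ K := by
    rintro _ ⟨a, rfl⟩
    exact ⟨_, (eK.symm _).2, rfl⟩
  have h3c : Nat.card j3.range = 6 := by
    rw [← Nat.card_congr (MonoidHom.ofInjective hj3).toEquiv, Nat.card_perm, Nat.card_fin]; rfl
  obtain ⟨⟨y, hy3⟩, hy⟩ := exists_prime_orderOf_dvd_card' (G := j3.range) 3 (by rw [h3c]; norm_num)
  rw [Subgroup.orderOf_mk] at hy
  set Y := zpowers y
  have hY : Nat.card Y = 3 := by rw [Nat.card_zpowers, hy]
  have hYj : Y ≤ j3.range := zpowers_le.2 hy3
  have hYidx : (Y.subgroupOf j3.range).index = 2 := by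
    have h := (Y.subgroupOf j3.range).card_mul_index
    rw [Cores.card_subgroupOf hYj, hY, h3c] at h
    omega
  have hjn : j3.range ≤ normalizer (Y : Set G) :=
    (normal_subgroupOf_iff_le_normalizer hYj).1 (normal_of_index_eq_two hYidx)
  have hG : Nat.card G = 168 := by rw [Nat.card_congr f.toEquiv, card_psl_seven]
  have hsyl : ∀ Z : Subgroup G, Nat.card Z = 3 → ∃ P : Sylow 3 G, (P : Subgroup G) = Z := fun Z hZ => by
    refine ⟨(IsPGroup.of_card (n := 1) (p := 3) (G := Z) (by rw [hZ, pow_one])).toSylow ?_, rfl⟩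
    have h := Z.card_mul_index
    rw [hZ, hG] at h
    omega
  obtain ⟨P, hP⟩ := hsyl Y hY
  obtain ⟨Q, hQ⟩ := hsyl X hX
  obtain ⟨k, hk⟩ := MulAction.exists_smul_eq G P Q
  have hk' : MulAut.conj k • Y = X := by
    rw [← hP, ← hQ, ← hk, Sylow.coe_subgroup_smul]
  have heq : MulAut.conj k • j3.range = H := by
    refine eq_of_le_of_card_ge (hnorm ▸ fun a ha => ?_) (by rw [h6, card_smul, h3c])
    refine mem_normalizer_of_conj fun v hv => ?_
    rw [← hk'] at hv ⊢
    refine Cores.mem_conj_smul.2 ?_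
    have := (mem_normalizer_iff.1 (hjn (Cores.mem_conj_smul.1 ha)) _).1 (Cores.mem_conj_smul.1 hv)
    simpa [mul_assoc] using this
  have hK : Nat.card K = 24 := by
    rw [hKdef, card_map_of_injective (f := f.symm.toMonoidHom) f.symm.injective,
      Nat.card_congr eK.toEquiv, PSL2.card_perm_four]
  have hle : H ≤ MulAut.conj k • K := heq ▸ Subgroup.pointwise_smul_le_pointwise_smul_iff.2 hj3K
  have hlt : H < MulAut.conj k • K := lt_of_le_of_ne hle fun h => by
    have := congrArg (fun Z : Subgroup G => Nat.card Z) h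
    simp only [card_smul, hK, h6] at this
    omega
  have h := congrArg (fun Z : Subgroup G => Nat.card Z) (d.max.2 _ hlt)
  simp only [card_smul, hK, card_top, hG] at h
  omega

end Cfsg.Agent.SubThree
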