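/-
Insoluble primitive groups with a suborbit of length three.
-/
import Cfsg.Agent.Lib.SubThree.CaseSmall
import Cfsg.Agent.Lib.SubThree.CaseDihedral
import Cfsg.Agent.Lib.SubThree.CaseFour
import Cfsg.Agent.Lib.SubThree.CaseFourTwo

set_option autoImplicit false
set_option linter.unusedSectionVars false
set_option linter.style.haveILetI false

namespace Cfsg.Agent.SubThree

open Subgroup MulAction ThompsonWielandt
open scoped Pointwise

universe u

variable {G : Type u} [Group G] [Finite G] {Ω : Type*} [MulAction G Ω] [FaithfulSMul G Ω]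

theorem isSolvable_of_iso {H : Subgroup G} {X : Type} [Group X] (e : H ≃* X)
    (h : ∃ a b : ℕ, Nat.card X = 2 ^ a * 3 ^ b) : Group.IsSolvable H := by
  obtain ⟨a, b, hab⟩ := h
  exact CharApp.isSolvable_of_card_eq_prime_pow_mul 2 3 Nat.prime_two Nat.prime_three _ H
    ((Nat.card_congr e.toEquiv).trans hab) a b rfl

/-- The stabilizer data of an insoluble primitive group with a suborbit of length three. -/
theorem data_of_primitive (hsol : ¬ Group.IsSolvable G) (hprim : IsPreprimitive G Ω) (a b : Ω)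
    (h3 : Nat.card (orbit (stabilizer G a) b) = 3) (hs : Group.IsSolvable (stabilizer G a)) :
    ∃ g : G, Data (stabilizer G a) g := by
  haveI := hprim.toIsPretransitive
  have hab : ¬ stabilizer G a ≤ stabilizer G b := ne_of_two_le (d := 3) h3 (by norm_num)
  haveI : Nontrivial Ω := ⟨⟨a, b, fun e => hab (e ▸ le_rfl)⟩⟩
  obtain ⟨g, hg⟩ := exists_smul_eq G a b
  have hHg : MulAut.conj g • stabilizer G a = stabilizer G b := by
    rw [← hg, stabilizer_smul_eq_stabilizer_map_conj]; rfl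
  refine ⟨g, (isCoatom_stabilizer_iff_preprimitive (G := G) a).mpr hprim, fun X hX hle => ?_,
    fun e => hab ?_, ?_, hsol, hs⟩
  · refine eq_bot_iff.2 fun x hx => mem_bot.2 (FaithfulSMul.eq_of_smul_eq_smul fun c : Ω => ?_)
    obtain ⟨k, rfl⟩ := exists_smul_eq G a c
    have h1 : (k⁻¹ * x * k) • a = a := mem_stabilizer_iff.1 (hle (by simpa using hX.conj_mem x hx k⁻¹))
    rw [one_smul]
    calc x • k • a = (k * (k⁻¹ * x * k)) • a := by rw [smul_smul]; congr 1; group
      _ = k • a := by rw [mul_smul, h1]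
  · rw [← hHg, e]
  · rw [hHg]; exact relIndex_stabilizer h3

/-- Insoluble primitive groups with a suborbit of length three. -/
theorem main (hsol : ¬ Group.IsSolvable G) (hprim : IsPreprimitive G Ω) (a b : Ω)
    (h3 : Nat.card (orbit (stabilizer G a) b) = 3) :
    Nonempty (G ≃* alternatingGroup (Fin 5)) ∨ Nonempty (G ≃* Equiv.Perm (Fin 5)) ∨
      Nonempty (G ≃* GL (Fin 2) (ZMod 7) ⧸ Subgroup.center (GL (Fin 2) (ZMod 7))) ∨
      Nonempty (G ≃* Matrix.ProjectiveSpecialLinearGroup (Fin 2) (ZMod 11)) ∨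
      Nonempty (G ≃* Matrix.ProjectiveSpecialLinearGroup (Fin 2) (ZMod 13)) ∨
      (∃ p : ℕ, p.Prime ∧ (p % 16 = 1 ∨ p % 16 = 15) ∧
        Nonempty (G ≃* Matrix.ProjectiveSpecialLinearGroup (Fin 2) (ZMod p))) ∨
      Nonempty (G ≃* Matrix.ProjectiveSpecialLinearGroup (Fin 3) (ZMod 3)) ∨
      (∃ N : Subgroup G, N.Normal ∧ N.index = 2 ∧ Subgroup.centralizer (N : Set G) = ⊥ ∧
        Nonempty (N ≃* Matrix.ProjectiveSpecialLinearGroup (Fin 3) (ZMod 3))) := by
  rcases Cubic.stabilizer_structure hprim a b h3 with he | he | he | he | he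
  · obtain ⟨e⟩ := he
    obtain ⟨g, d⟩ := data_of_primitive hsol hprim a b h3 (isSolvable_of_iso e ⟨0, 1, by
      rw [Nat.card_congr Multiplicative.toAdd, Nat.card_zmod]; rfl⟩)
    exact (d.case_three e).elim
  · obtain ⟨e⟩ := he
    obtain ⟨g, d⟩ := data_of_primitive hsol hprim a b h3 (isSolvable_of_iso e ⟨1, 1, by
      rw [Nat.card_perm, Nat.card_fin]; rfl⟩)
    exact Or.inl (d.case_six e)
  · obtain ⟨e⟩ := he
    obtain ⟨g, d⟩ := data_of_primitive hsol hprim a b h3 (isSolvable_of_iso e ⟨2, 1, by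
      rw [DihedralGroup.nat_card]; rfl⟩)
    rcases d.case_twelve e with h | h | h | h
    · exact Or.inr (Or.inl h)
    · exact Or.inr (Or.inr (Or.inl h))
    · exact Or.inr (Or.inr (Or.inr (Or.inl h)))
    · exact Or.inr (Or.inr (Or.inr (Or.inr (Or.inl h))))
  · obtain ⟨e⟩ := he
    obtain ⟨g, d⟩ := data_of_primitive hsol hprim a b h3 (isSolvable_of_iso e ⟨3, 1, by
      rw [Nat.card_perm, Nat.card_fin]; rfl⟩)
    rcases d.case_four e with h | h
    · exact Or.inr (Or.inr (Or.inr (Or.inr (Or.inr (Or.inl h)))))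
    · exact Or.inr (Or.inr (Or.inr (Or.inr (Or.inr (Or.inr (Or.inl h))))))
  · obtain ⟨e⟩ := he
    obtain ⟨g, d⟩ := data_of_primitive hsol hprim a b h3 (isSolvable_of_iso e ⟨4, 1, by
      rw [Nat.card_prod, Nat.card_perm, Nat.card_fin, Nat.card_congr Multiplicative.toAdd, Nat.card_zmod]; rfl⟩)
    exact Or.inr (Or.inr (Or.inr (Or.inr (Or.inr (Or.inr (Or.inr (d.case_four_two e)))))))

end Cfsg.Agent.SubThree
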